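import Groth.Agent.L16.ProjSpace.Basic
import Mathlib.AlgebraicGeometry.Morphisms.Separated
import Mathlib.RingTheory.Valuation.ValuationSubring
import Mathlib.RingTheory.Valuation.LocalSubring

/-!
# Making finitely many elements of a field regular where they are integral
-/

set_option autoImplicit false
set_option linter.style.haveILetI false
set_option backward.isDefEq.respectTransparency.types false

universe u

open CategoryTheory CategoryTheory.Limits AlgebraicGeometry TopologicalSpace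

noncomputable section

namespace Groth.L06.Subtr

variable {K : Type u} [Field K]

/-- The values at a `K`-point of the functions on an open containing it. -/
def ev {Y : Scheme.{u}} (e : Spec (CommRingCat.of K) ⟶ Y) (O : Y.Opens) (h : ⊤ ≤ e ⁻¹ᵁ O) : Γ(Y, O) →+* K :=
  (e.appLE O ⊤ h ≫ (Scheme.ΓSpecIso (CommRingCat.of K)).hom).hom

theorem ev_comp {Y Y' : Scheme.{u}} (e' : Spec (CommRingCat.of K) ⟶ Y') (π : Y' ⟶ Y)
    (e : Spec (CommRingCat.of K) ⟶ Y) (he : e' ≫ π = e) {O : Y.Opens} {O' : Y'.Opens} (hO : O' ≤ π ⁻¹ᵁ O)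
    (h : ⊤ ≤ e ⁻¹ᵁ O) (h' : ⊤ ≤ e' ⁻¹ᵁ O') :
    (ev e' O' h').comp (π.appLE O O' hO).hom = ev e O h := by
  subst he
  show (π.appLE O O' hO ≫ e'.appLE O' ⊤ h' ≫ (Scheme.ΓSpecIso (CommRingCat.of K)).hom).hom = _
  rw [← Category.assoc, Scheme.Hom.appLE_comp_appLE]
  rfl

theorem range_ev_mono {Y Y' : Scheme.{u}} (e' : Spec (CommRingCat.of K) ⟶ Y') (π : Y' ⟶ Y)
    (e : Spec (CommRingCat.of K) ⟶ Y) (he : e' ≫ π = e) {O : Y.Opens} {O' : Y'.Opens} (hO : O' ≤ π ⁻¹ᵁ O)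
    (h : ⊤ ≤ e ⁻¹ᵁ O) (h' : ⊤ ≤ e' ⁻¹ᵁ O') : (ev e O h).range ≤ (ev e' O' h').range := by
  rw [← ev_comp e' π e he hO h h']
  rintro _ ⟨a, rfl⟩
  exact ⟨_, rfl⟩

/-- The generic point of a valuation subring. -/
abbrev gen (V : ValuationSubring K) : Spec (CommRingCat.of K) ⟶ Spec (CommRingCat.of V) :=
  Spec.map (CommRingCat.ofHom V.subtype)

instance isDominant_gen (V : ValuationSubring K) : IsDominant (gen V) := by
  refine ⟨(PrimeSpectrum.denseRange_comap_iff_ker_le_nilRadical _).2 ?_⟩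
  intro x hx
  have : x = 0 := Subtype.ext hx
  exact this ▸ zero_mem _

/-- `t` is regular on an open containing the point and all centres of valuation rings containing `t`. -/
def IsRegular {Y' : Scheme.{u}} (e : Spec (CommRingCat.of K) ⟶ Y') (t : K) : Prop :=
  ∃ (O : Y'.Opens) (h : ⊤ ≤ e ⁻¹ᵁ O), t ∈ (ev e O h).range ∧
    ∀ (V : ValuationSubring K) (c : Spec (CommRingCat.of V) ⟶ Y'), t ∈ V → gen V ≫ c = e →
      c (IsLocalRing.closedPoint V) ∈ O

theorem IsRegular.pullback {Y Y' : Scheme.{u}} {e : Spec (CommRingCat.of K) ⟶ Y} {t : K} (ht : IsRegular e t)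
    (e' : Spec (CommRingCat.of K) ⟶ Y') (π : Y' ⟶ Y) (he : e' ≫ π = e) : IsRegular e' t := by
  obtain ⟨O, h, hr, hc⟩ := ht
  have h' : ⊤ ≤ e' ⁻¹ᵁ (π ⁻¹ᵁ O) := by subst he; exact h
  exact ⟨π ⁻¹ᵁ O, h', range_ev_mono e' π e he le_rfl h h' hr,
    fun V c hV hc' => hc V (c ≫ π) hV (by rw [← Category.assoc, hc', he])⟩

theorem range_le_ev {A : CommRingCat.{u}} {P : Scheme.{u}} (j : Spec A ⟶ P) [IsOpenImmersion j]
    (φ : A ⟶ CommRingCat.of K) (h : ⊤ ≤ (Spec.map φ ≫ j) ⁻¹ᵁ j.opensRange) :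
    φ.hom.range ≤ (ev (Spec.map φ ≫ j) j.opensRange h).range := by
  rintro _ ⟨a, rfl⟩
  obtain ⟨b, hb⟩ := (ConcreteCategory.bijective_of_isIso (Scheme.ΓSpecIso A).hom).2 a
  haveI : IsIso (j.appLE j.opensRange ⊤ (fun x _ => ⟨x, rfl⟩)) := by
    rw [Scheme.Hom.appLE]
    haveI : IsIso (j.app j.opensRange) := j.isIso_app _ le_rfl
    have e : j ⁻¹ᵁ j.opensRange = ⊤ := j.preimage_opensRange
    haveI : IsIso ((Spec A).presheaf.map (homOfLE (show ⊤ ≤ j ⁻¹ᵁ j.opensRange from e.ge)).op) := by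
      rw [show (homOfLE (show ⊤ ≤ j ⁻¹ᵁ j.opensRange from e.ge)).op = eqToHom (by rw [e]) from Subsingleton.elim _ _]
      infer_instance
    infer_instance
  obtain ⟨c, hc⟩ := (ConcreteCategory.bijective_of_isIso (j.appLE j.opensRange ⊤ (fun x _ => ⟨x, rfl⟩))).2 b
  refine ⟨c, ?_⟩
  have h1 := RingHom.congr_fun (ev_comp (Spec.map φ) j (Spec.map φ ≫ j) rfl
    (show (⊤ : (Spec A).Opens) ≤ j ⁻¹ᵁ j.opensRange from fun x _ => ⟨x, rfl⟩) h (fun x _ => trivial)) c
  rw [← h1, RingHom.comp_apply]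
  show ev (Spec.map φ) ⊤ _ ((j.appLE j.opensRange ⊤ _) c) = _
  rw [hc, ← hb]
  have h2 := ConcreteCategory.congr_hom (Scheme.ΓSpecIso_naturality φ) b
  exact h2

/-- Finitely many elements can be made regular by a proper modification. -/
theorem exists_regular {Y : Scheme.{u}} (η : Spec (CommRingCat.of K) ⟶ Y) (T : Finset K) :
    ∃ (Y' : Scheme.{u}) (q : Y' ⟶ Y) (e : Spec (CommRingCat.of K) ⟶ Y'),
      IsProper q ∧ e ≫ q = η ∧ ∀ t ∈ T, IsRegular e t := by
  classical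
  induction T using Finset.induction_on with
  | empty => exact ⟨Y, 𝟙 Y, η, inferInstance, Category.comp_id _, by simp⟩
  | insert t T _ ih =>
    obtain ⟨Y', q, e, hq, he, hT⟩ := ih
    let R := ULift.{u} ℤ
    let j := Groth.L16.ProjSpace.chart 1 R 0
    let B := CommRingCat.of (MvPolynomial (Groth.L16.ProjSpace.ChartVar 1 (0 : Fin 2)) R)
    let φ : B ⟶ CommRingCat.of K :=
      CommRingCat.ofHom (MvPolynomial.eval₂Hom ((Int.castRingHom K).comp ULift.ringEquiv.toRingHom) fun _ => t)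
    let e' : Spec (CommRingCat.of K) ⟶ CohB1.ProjSpaceOver 1 Y' :=
      pullback.lift (Spec.map φ ≫ j) e (specULiftZIsTerminal.hom_ext _ _)
    let pr : CohB1.ProjSpaceOver 1 Y' ⟶ CohB1.ProjSpace 1 R := pullback.fst _ _
    let π : CohB1.ProjSpaceOver 1 Y' ⟶ Y' := CohB1.ProjSpaceOver.toBase 1 Y'
    have he' : e' ≫ π = e := pullback.lift_snd _ _ _
    have hpr : e' ≫ pr = Spec.map φ ≫ j := pullback.lift_fst _ _ _
    refine ⟨_, π ≫ q, e', inferInstance, by rw [← Category.assoc, he', he], fun t' ht' => ?_⟩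
    rcases Finset.mem_insert.mp ht' with rfl | ht'
    swap
    · exact (hT t' ht').pullback e' π he'
    have h0 : ⊤ ≤ (Spec.map φ ≫ j) ⁻¹ᵁ j.opensRange := fun x _ => ⟨Spec.map φ x, rfl⟩
    have h' : ⊤ ≤ e' ⁻¹ᵁ (pr ⁻¹ᵁ j.opensRange) := fun x hx => by
      show pr (e' x) ∈ j.opensRange
      rw [← Scheme.Hom.comp_apply, hpr]
      exact h0 hx
    refine ⟨pr ⁻¹ᵁ j.opensRange, h', range_ev_mono e' pr _ hpr le_rfl h0 h'
      (range_le_ev j φ h0 ⟨MvPolynomial.X ⟨1, by decide⟩, MvPolynomial.eval₂Hom_X' _ _ _⟩),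
      fun V c hV hc => ?_⟩
    let ψ : B ⟶ CommRingCat.of V := CommRingCat.ofHom
      (MvPolynomial.eval₂Hom ((Int.castRingHom V).comp ULift.ringEquiv.toRingHom) fun _ => (⟨t', hV⟩ : V))
    have hψ : ψ ≫ CommRingCat.ofHom V.subtype = φ :=
      CommRingCat.hom_ext (MvPolynomial.ringHom_ext (fun r => by simp [ψ, φ]) (fun i => by simp [ψ, φ]))
    have heq : c ≫ pr = Spec.map ψ ≫ j := by
      refine ext_of_isDominant_of_isSeparated (CohB1.ProjSpace.toSpec 1 R)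
        (specULiftZIsTerminal.hom_ext _ _) (gen V) ?_
      rw [← Category.assoc, hc, hpr, ← Category.assoc, ← Spec.map_comp, hψ]
    show pr (c (IsLocalRing.closedPoint V)) ∈ j.opensRange
    rw [← Scheme.Hom.comp_apply, heq]
    exact ⟨_, rfl⟩

end Groth.L06.Subtr
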