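import Mathlib.RingTheory.Valuation.ValuationSubring
import Mathlib.Topology.Compactness.Compact
import Mathlib.Topology.Constructions
import Mathlib.Topology.Order
import Mathlib.Topology.Instances.Discrete

/-!
# Quasi-compactness of the space of valuation rings of a field over a subring
-/

set_option autoImplicit false

universe u v

namespace Groth.L06.Subtr

/-- A covering of the valuation rings of `K` containing `A` by the sets `{V | T ⊆ V}` has a finite subcovering. -/
theorem exists_finset_of_forall {K : Type u} [Field K] (A : Set K) {J : Type v} (T : J → Finset K)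
    (h : ∀ V : ValuationSubring K, A ⊆ V → ∃ j, (T j : Set K) ⊆ V) :
    ∃ s : Finset J, ∀ V : ValuationSubring K, A ⊆ V → ∃ j ∈ s, (T j : Set K) ⊆ V := by
  classical
  let C : Set (K → Bool) := {f | (∀ x y, f x = true → f y = true → f (x + y) = true ∧ f (x * y) = true) ∧
    (∀ x, f x = true → f (-x) = true) ∧ (∀ x, f x = true ∨ f x⁻¹ = true) ∧ (∀ a ∈ A, f a = true)}
  have hcl : ∀ (x : K) (b : Bool), IsClosed {f : K → Bool | f x = b} := fun x b =>
    isClosed_eq (continuous_apply x) continuous_const
  have hop : ∀ (x : K) (b : Bool), IsOpen {f : K → Bool | f x = b} := fun x b =>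
    (isOpen_discrete ({b} : Set Bool)).preimage (continuous_apply (A := fun _ : K => Bool) x)
  have hC : IsClosed C := by
    simp only [C, Set.setOf_and, Set.setOf_forall]
    refine IsClosed.inter (isClosed_iInter fun x => isClosed_iInter fun y => ?_) (IsClosed.inter
      (isClosed_iInter fun x => ?_) (IsClosed.inter (isClosed_iInter fun x => ?_)
        (isClosed_iInter fun a => isClosed_iInter fun _ => hcl a true)))
    · exact isClosed_imp (hop x true) (isClosed_imp (hop y true) ((hcl _ true).inter (hcl _ true)))
    · exact isClosed_imp (hop x true) (hcl _ true)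
    · exact (hcl x true).union (hcl _ true)
  let toV : ∀ f ∈ C, ValuationSubring K := fun f hf =>
    { carrier := {x | f x = true}
      mul_mem' := fun hx hy => (hf.1 _ _ hx hy).2
      one_mem' := ((hf.2.2.1 1).elim id fun h => by simpa using h : f 1 = true)
      add_mem' := fun hx hy => (hf.1 _ _ hx hy).1
      zero_mem' := ((hf.2.2.1 0).elim id fun h => by simpa using h : f 0 = true)
      neg_mem' := fun hx => hf.2.1 _ hx
      mem_or_inv_mem' := fun x => hf.2.2.1 x }
  have hO : ∀ j, IsOpen {f : K → Bool | ∀ t ∈ T j, f t = true} := fun j => by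
    rw [show {f : K → Bool | ∀ t ∈ T j, f t = true} = ⋂ t ∈ T j, {f | f t = true} by ext; simp]
    exact isOpen_biInter_finset fun t _ => hop t true
  obtain ⟨s, hs⟩ := hC.isCompact.elim_finite_subcover _ hO fun f hf => by
    obtain ⟨j, hj⟩ := h (toV f hf) fun a ha => hf.2.2.2 a ha
    exact Set.mem_iUnion.mpr ⟨j, fun t ht => hj ht⟩
  refine ⟨s, fun V hV => ?_⟩
  have hf : (fun x => decide (x ∈ V)) ∈ C := by
    simp only [C, Set.mem_setOf_eq, decide_eq_true_eq]
    exact ⟨fun x y hx hy => ⟨V.add_mem x y hx hy, V.mul_mem x y hx hy⟩, fun x hx => V.neg_mem x hx,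
      V.mem_or_inv_mem, fun a ha => hV ha⟩
  obtain ⟨j, hj, hf'⟩ := Set.mem_iUnion₂.mp (hs hf)
  exact ⟨j, hj, fun t ht => by simpa using hf' t ht⟩

end Groth.L06.Subtr
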