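import Groth.Agent.L06.Subtr.Refine
import Groth.Agent.L20.QfRefine.Basic
import Groth.Agent.L23.SchemeFacts
import Groth.Agent.L23.Chow.SchemeSurj
import Groth.Agent.L20.SchDesc.Sigma
import Groth.Agent.S14770
import Groth.Agent.S14792
import Mathlib.FieldTheory.IsAlgClosed.AlgebraicClosure

/-!
# Refining an S-subtrusive morphism by an open cover of a proper surjection
-/

set_option autoImplicit false
set_option linter.style.haveILetI false
set_option backward.isDefEq.respectTransparency.types false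

universe u

open CategoryTheory CategoryTheory.Limits AlgebraicGeometry TopologicalSpace

noncomputable section

namespace Groth.L06.Subtr

theorem isProper_sigmaDesc {J : Type u} [Finite J] {W : J → Scheme.{u}} {X : Scheme.{u}} (f : ∀ j, W j ⟶ X)
    [∀ j, IsProper (f j)] : IsProper (Sigma.desc f) := by
  haveI : IsFinite (Sigma.desc fun _ : J => 𝟙 X) := Groth.L23.Chow.isFinite_sigmaDesc _
  haveI : IsProper (Limits.Sigma.map f) := Groth.L20.SchDesc.sigmaMap_of @IsProper f fun j => inferInstance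
  have : Sigma.desc f = Limits.Sigma.map f ≫ Sigma.desc fun _ : J => 𝟙 X := by
    refine Sigma.hom_ext _ _ fun j => ?_
    simp
  rw [this]
  infer_instance

theorem flat_of_localIso {X Y : Scheme.{u}} (p : X ⟶ Y)
    (h : ∀ x : X, ∃ U : X.Opens, x ∈ U ∧ IsOpenImmersion (U.ι ≫ p)) :
    Flat p ∧ LocallyOfFinitePresentation p := by
  choose U hU hp using h
  have hc : IsOpenCover U := IsOpenCover.mk (top_le_iff.mp fun x _ => Opens.mem_iSup.mpr ⟨x, hU x⟩)
  exact ⟨IsZariskiLocalAtSource.of_openCover (P := @Flat) (X.openCoverOfIsOpenCover U hc)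
      fun x => haveI := hp x; inferInstanceAs (Flat ((U x).ι ≫ p)),
    IsZariskiLocalAtSource.of_openCover (P := @LocallyOfFinitePresentation) (X.openCoverOfIsOpenCover U hc)
      fun x => haveI := hp x; inferInstanceAs (LocallyOfFinitePresentation ((U x).ι ≫ p))⟩

/-- The refinement over a Noetherian base. -/
theorem exists_refinement_noetherian {X Y : Scheme.{u}} (f : X ⟶ Y) [IsNoetherian Y]
    [LocallyOfFinitePresentation f] (hf : Subtr.UnivSSubtrusive f) :
    ∃ (X' Y' : Scheme.{u}) (h : X' ⟶ X) (p : X' ⟶ Y') (q : Y' ⟶ Y), h ≫ f = p ≫ q ∧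
      Surjective p ∧ QuasiCompact p ∧ QuasiSeparated p ∧
      (∀ x : X', ∃ U : X'.Opens, x ∈ U ∧ IsOpenImmersion (U.ι ≫ p)) ∧
      IsProper q ∧ Surjective q ∧ LocallyOfFinitePresentation q := by
  classical
  let C := ↥(irreducibleComponents (Y : Type u))
  haveI : Finite C := TopologicalSpace.NoetherianSpace.finite_irreducibleComponents.to_subtype
  have hgp : ∀ c : C, ∃ ξ : Y, IsGenericPoint ξ (c.1 : Set Y) := fun c => by
    have hirr : IsIrreducible (c.1 : Set Y) := c.2.1
    exact QuasiSober.sober hirr (isClosed_of_mem_irreducibleComponents _ c.2)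
  choose ξ hξ using hgp
  let K : C → Type u := fun c => AlgebraicClosure (Y.residueField (ξ c))
  let η : ∀ c, Spec (CommRingCat.of (K c)) ⟶ Y := fun c =>
    Spec.map (CommRingCat.ofHom (algebraMap (Y.residueField (ξ c)) (K c))) ≫ Y.fromSpecResidueField (ξ c)
  have hη : ∀ c, η c (IsLocalRing.closedPoint (K c)) = ξ c := fun c => by
    rw [Scheme.Hom.comp_apply, Scheme.fromSpecResidueField_apply]
  choose Y₀ q₀ J hJ V r hq hmem hcov hr using fun c => exists_sections f hf (η c)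
  haveI := hJ
  haveI := hq
  let q : (∐ Y₀) ⟶ Y := Sigma.desc q₀
  haveI : IsProper q := isProper_sigmaDesc q₀
  haveI : IsLocallyNoetherian (∐ Y₀) := LocallyOfFiniteType.isLocallyNoetherian q
  haveI : CompactSpace ↑(∐ Y₀ : Scheme.{u}) := QuasiCompact.compactSpace_of_compactSpace q
  let V' : (Σ c, J c) → (∐ Y₀).Opens := fun k => Sigma.ι Y₀ k.1 ''ᵁ V k.1 k.2
  let r' : ∀ k, (V' k : Scheme.{u}) ⟶ X := fun k =>
    ((Sigma.ι Y₀ k.1).isoImage (V k.1 k.2)).inv ≫ r k.1 k.2
  have hr' : ∀ k, r' k ≫ f = (V' k).ι ≫ q := fun k => by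
    rw [← cancel_epi ((Sigma.ι Y₀ k.1).isoImage (V k.1 k.2)).hom]
    simp only [r', Category.assoc, Iso.hom_inv_id_assoc]
    rw [hr, Scheme.Hom.isoImage_hom_ι_assoc, Sigma.ι_desc]
  have hcov' : IsOpenCover V' := IsOpenCover.mk (top_le_iff.mp fun z _ => by
    obtain ⟨c, z', rfl⟩ := Scheme.IsLocallyDirected.ι_jointly_surjective (Discrete.functor Y₀) z
    obtain ⟨k, hk⟩ := (hcov c.as).exists_mem z'
    exact Opens.mem_iSup.mpr ⟨⟨c.as, k⟩, z', hk, rfl⟩)
  haveI : Surjective q := ⟨fun y => by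
    obtain ⟨z, hz⟩ : ∃ c : C, y ∈ (c.1 : Set Y) := by
      obtain ⟨c, hc, hyc⟩ := exists_preirreducible {y} isPreirreducible_singleton |>.imp fun s hs =>
        (show s ∈ irreducibleComponents Y ∧ y ∈ s from
          ⟨⟨⟨⟨y, hs.2.1 rfl⟩, hs.1⟩, fun t ht hst => (hs.2.2 t ht.2 hst).le⟩, hs.2.1 rfl⟩)
      exact ⟨⟨c, hc⟩, hyc⟩
    obtain ⟨z₀, hz₀⟩ := hmem z
    rw [hη] at hz₀
    have hcl : IsClosed (Set.range (q₀ z)) := (q₀ z).isClosedMap.isClosed_range
    obtain ⟨w, hw⟩ := ((hξ z).specializes hz).mem_closed hcl ⟨z₀, hz₀⟩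
    exact ⟨Sigma.ι Y₀ z w, by rw [← Scheme.Hom.comp_apply, Sigma.ι_desc, hw]⟩⟩
  haveI : IsNoetherian (∐ Y₀) := { }
  haveI : ∀ k, CompactSpace (V' k : Scheme.{u}) := fun k =>
    isCompact_iff_compactSpace.mp (TopologicalSpace.NoetherianSpace.isCompact _)
  haveI : LocallyOfFiniteType (Sigma.desc fun k => (V' k).ι) :=
    IsZariskiLocalAtSource.sigmaDesc fun k => inferInstance
  haveI : IsLocallyNoetherian (∐ fun k => (V' k : Scheme.{u})) :=
    LocallyOfFiniteType.isLocallyNoetherian (Sigma.desc fun k => (V' k).ι)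
  haveI : CompactSpace ↑(∐ fun k => (V' k : Scheme.{u}) :) := (sigmaMk fun k => (V' k : Scheme.{u})).compactSpace
  refine ⟨∐ fun k => (V' k : Scheme.{u}), ∐ Y₀, Sigma.desc r', Sigma.desc fun k => (V' k).ι, q, ?_,
    Groth.L20.QfRefine.surjective_sigmaDesc hcov', inferInstance, inferInstance,
    Groth.L20.QfRefine.exists_nhd_isOpenImmersion V', inferInstance, inferInstance,
    Groth.L23.lfp_of_lft_locallyNoetherian q⟩
  refine Sigma.hom_ext _ _ fun k => ?_
  rw [Sigma.ι_desc_assoc, Sigma.ι_desc_assoc, hr']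

/-- The refinement over a base which is affine or Noetherian. -/
theorem exists_refinement {X Y : Scheme.{u}} (f : X ⟶ Y) (hY : IsAffine Y ∨ IsNoetherian Y)
    [LocallyOfFinitePresentation f] [QuasiCompact f] [QuasiSeparated f] (hf : Subtr.UnivSSubtrusive f) :
    ∃ (X' Y' : Scheme.{u}) (h : X' ⟶ X) (p : X' ⟶ Y') (q : Y' ⟶ Y), h ≫ f = p ≫ q ∧
      Surjective p ∧ QuasiCompact p ∧ QuasiSeparated p ∧
      (∀ x : X', ∃ U : X'.Opens, x ∈ U ∧ IsOpenImmersion (U.ι ≫ p)) ∧
      IsProper q ∧ Surjective q ∧ LocallyOfFinitePresentation q := by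
  rcases hY with hY | hY
  swap
  · exact exists_refinement_noetherian f hf
  let e := Y.isoSpec
  have hf' : Subtr.UnivSSubtrusive (f ≫ e.hom) := by
    haveI : MorphismProperty.IsStableUnderBaseChange Subtr.UnivSSubtrusive.{u} :=
      MorphismProperty.universally_isStableUnderBaseChange _
    exact MorphismProperty.of_isPullback (IsPullback.of_horiz_isIso ⟨by simp⟩ :
      IsPullback (𝟙 X) (f ≫ e.hom) f e.inv) hf
  obtain ⟨A₀, hA₀, X₀, f₀, g₀, hsq, h1, h2, h3, h4⟩ := (Groth.Agent.S14792.result _ (f ≫ e.hom)).mp hf'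
  haveI : Algebra.FiniteType ℤ A₀ := A₀.fg_iff_finiteType.mp hA₀
  haveI : IsNoetherianRing A₀ := Algebra.FiniteType.isNoetherianRing ℤ A₀
  obtain ⟨X₁, Y₁, h₁, p₁, q₁, hw, hps, hpqc, hpqs, hloc, hqp, hqs, hqfp⟩ :=
    exists_refinement_noetherian f₀ ((Groth.Agent.S14770.result f₀).mp h4)
  let b : Y ⟶ Spec (CommRingCat.of A₀) := e.hom ≫ Spec.map (CommRingCat.ofHom A₀.val.toRingHom)
  have hsq' : IsPullback g₀ f f₀ b := by
    exact hsq.of_iso (Iso.refl _) (Iso.refl _) e.symm (Iso.refl _) (by simp) (by simp) (by simp)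
      (by simp [b])
  let Y' := pullback b q₁
  let p : pullback (pullback.snd b q₁) p₁ ⟶ Y' := pullback.fst _ _
  let c : pullback (pullback.snd b q₁) p₁ ⟶ X₁ := pullback.snd _ _
  refine ⟨pullback (pullback.snd b q₁) p₁, Y', hsq'.lift (c ≫ h₁) (p ≫ pullback.fst b q₁) ?_, p,
    pullback.fst b q₁, hsq'.lift_snd _ _ _, inferInstance, inferInstance, inferInstance, fun x => ?_,
    inferInstance, inferInstance, inferInstance⟩
  · rw [Category.assoc, hw, Category.assoc, pullback.condition, ← Category.assoc, ← pullback.condition,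
      Category.assoc]
  · obtain ⟨U, hxU, hU⟩ := hloc (c x)
    haveI := hU
    refine ⟨c ⁻¹ᵁ U, hxU, ?_⟩
    exact MorphismProperty.of_isPullback (P := @IsOpenImmersion)
      (((isPullback_morphismRestrict c U).flip.paste_horiz (IsPullback.of_hasPullback (pullback.snd b q₁) p₁)).flip) hU

end Groth.L06.Subtr
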