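import Groth.Agent.L06.Subtr.FlatRefine
import Groth.Agent.L06.Subtr.Global
import Groth.Agent.L09.UnivOpenLimit
import Groth.Agent.L00.LimSurj
import Groth.Agent.L05.ModelFG

/-!
# Flattening universally open morphisms by proper surjections
-/

set_option autoImplicit false
set_option linter.style.haveILetI false
set_option backward.isDefEq.respectTransparency.types false

universe u

open CategoryTheory CategoryTheory.Limits AlgebraicGeometry TopologicalSpace

noncomputable section

namespace Groth.L06.Subtr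

theorem exists_flat_noetherian {X Y : Scheme.{u}} (f : X ⟶ Y) [IsNoetherian Y] [LocallyOfFinitePresentation f]
    [QuasiCompact f] [QuasiSeparated f] [UniversallyOpen f] [Surjective f] :
    ∃ (Y' : Scheme.{u}) (q : Y' ⟶ Y) (X' : Scheme.{u}) (r : X' ⟶ pullback f q),
      IsProper q ∧ Surjective q ∧ LocallyOfFinitePresentation q ∧
      IsClosedImmersion r ∧ Surjective r ∧
      Flat (r ≫ pullback.snd f q) ∧ Surjective (r ≫ pullback.snd f q) ∧
      LocallyOfFinitePresentation (r ≫ pullback.snd f q) ∧ QuasiCompact (r ≫ pullback.snd f q) ∧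
      QuasiSeparated (r ≫ pullback.snd f q) := by
  classical
  let C := ↥(irreducibleComponents (Y : Type u))
  haveI : Finite C := TopologicalSpace.NoetherianSpace.finite_irreducibleComponents.to_subtype
  have hgp : ∀ c : C, ∃ ξ : Y, IsGenericPoint ξ (c.1 : Set Y) := fun c =>
    QuasiSober.sober c.2.1 (isClosed_of_mem_irreducibleComponents _ c.2)
  choose ξ hξ using hgp
  let K : C → Type u := fun c => AlgebraicClosure (Y.residueField (ξ c))
  let η : ∀ c, Spec (CommRingCat.of (K c)) ⟶ Y := fun c =>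
    Spec.map (CommRingCat.ofHom (algebraMap (Y.residueField (ξ c)) (K c))) ≫ Y.fromSpecResidueField (ξ c)
  have hη : ∀ c, η c (IsLocalRing.closedPoint (K c)) = ξ c := fun c => by
    rw [Scheme.Hom.comp_apply, Scheme.fromSpecResidueField_apply]
  choose Y₀ q₀ X₀ r₀ hq hmem hcl hsur hflat using fun c => exists_flat_modification f (η c)
  haveI := hq
  haveI := hcl
  haveI := hsur
  let q : (∐ Y₀) ⟶ Y := Sigma.desc q₀
  haveI : IsProper q := isProper_sigmaDesc q₀
  haveI : Surjective q := ⟨fun y => by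
    obtain ⟨z, hz⟩ : ∃ c : C, y ∈ (c.1 : Set Y) := by
      have h := sUnion_irreducibleComponents (X := Y) ▸ Set.mem_univ y
      obtain ⟨s, hs, hy⟩ := Set.mem_sUnion.mp h
      exact ⟨⟨s, hs⟩, hy⟩
    obtain ⟨z₀, hz₀⟩ := hmem z
    rw [hη] at hz₀
    obtain ⟨w, hw⟩ := ((hξ z).specializes hz).mem_closed (q₀ z).isClosedMap.isClosed_range ⟨z₀, hz₀⟩
    exact ⟨Sigma.ι Y₀ z w, by rw [← Scheme.Hom.comp_apply, Sigma.ι_desc, hw]⟩⟩
  let m : ∀ c, pullback f (q₀ c) ⟶ pullback f q := fun c =>
    pullback.lift (pullback.fst _ _) (pullback.snd _ _ ≫ Sigma.ι Y₀ c)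
      (by rw [pullback.condition, Category.assoc, Sigma.ι_desc])
  have hm : ∀ c, IsPullback (m c) (pullback.snd f (q₀ c)) (pullback.snd f q) (Sigma.ι Y₀ c) := fun c => by
    refine IsPullback.of_right ?_ (pullback.lift_snd _ _ _) (IsPullback.of_hasPullback f q)
    rw [pullback.lift_fst, Sigma.ι_desc]
    exact IsPullback.of_hasPullback f (q₀ c)
  let r : (∐ X₀) ⟶ pullback f q := Sigma.desc fun c => r₀ c ≫ m c
  have hopen : ∀ c, IsOpenImmersion (m c) := fun c =>
    MorphismProperty.of_isPullback (P := @IsOpenImmersion) (hm c).flip inferInstance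
  haveI := hopen
  have hrange : ∀ c, Set.range (m c) = pullback.snd f q ⁻¹' Set.range (Sigma.ι Y₀ c) := fun c => by
    rw [← (hm c).isoPullback_hom_fst, Scheme.Hom.comp_base, TopCat.coe_comp, Set.range_comp,
      Set.range_eq_univ.mpr (hm c).isoPullback.hom.surjective, Set.image_univ]
    exact Scheme.Pullback.range_fst _ _
  have hr : ∀ c, IsPullback (Sigma.ι X₀ c) (r₀ c) r (m c) := fun c => by
    refine (IsOpenImmersion.isPullback (r₀ c) (Sigma.ι X₀ c) (m c) r (Sigma.ι_desc _ _) ?_).flip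
    refine Opens.ext (Set.Subset.antisymm ?_ ?_)
    · rintro z ⟨y, hy⟩
      obtain ⟨c', a, rfl⟩ := Groth.L20.SchDesc.exists_sigmaι_eq z
      rw [← Scheme.Hom.comp_apply, Sigma.ι_desc, Scheme.Hom.comp_apply] at hy
      have h1 := (hrange c).le ⟨y, rfl⟩
      rw [Set.mem_preimage, hy, ← Scheme.Hom.comp_apply (m c'), pullback.lift_snd, Scheme.Hom.comp_apply] at h1
      obtain ⟨b, hb⟩ := h1
      obtain rfl := Groth.L20.SchDesc.eq_of_sigmaι_eq hb
      exact ⟨a, rfl⟩
    · rintro _ ⟨a, rfl⟩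
      exact ⟨r₀ c a, by rw [← Scheme.Hom.comp_apply (Sigma.ι X₀ c), Sigma.ι_desc, Scheme.Hom.comp_apply]⟩
  have hcovm : ∀ z : ↥(pullback f q), ∃ c w, m c w = z := fun z => by
    obtain ⟨c, y, hy⟩ := Groth.L20.SchDesc.exists_sigmaι_eq (pullback.snd f q z)
    exact ⟨c, (hrange c).ge ⟨y, hy⟩⟩
  let 𝒰 : (pullback f q).OpenCover :=
    { I₀ := C
      X := fun c => pullback f (q₀ c)
      f := m
      mem₀ := by
        rw [Scheme.presieve₀_mem_precoverage_iff]
        exact ⟨hcovm, fun c => inferInstance⟩ }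
  haveI : IsClosedImmersion r := by
    refine (IsZariskiLocalAtTarget.iff_of_openCover (P := @IsClosedImmersion) 𝒰).2 fun c => ?_
    show IsClosedImmersion (pullback.snd r (m c))
    rw [← (hr c).isoPullback_inv_snd]
    infer_instance
  haveI : Surjective r := ⟨fun z => by
    obtain ⟨c, w, rfl⟩ := hcovm z
    obtain ⟨x, rfl⟩ := (r₀ c).surjective w
    exact ⟨Sigma.ι X₀ c x, by rw [← Scheme.Hom.comp_apply, Sigma.ι_desc, Scheme.Hom.comp_apply]⟩⟩
  haveI : Flat (r ≫ pullback.snd f q) := by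
    refine IsZariskiLocalAtSource.of_openCover (P := @Flat) (sigmaOpenCover X₀) fun c => ?_
    show Flat (Sigma.ι X₀ c ≫ r ≫ pullback.snd f q)
    rw [Sigma.ι_desc_assoc, Category.assoc, pullback.lift_snd, ← Category.assoc]
    haveI := hflat c
    infer_instance
  haveI : IsLocallyNoetherian (∐ Y₀) := LocallyOfFiniteType.isLocallyNoetherian q
  exact ⟨_, q, _, r, inferInstance, inferInstance, Groth.L23.lfp_of_lft_locallyNoetherian q, inferInstance,
    inferInstance, inferInstance, inferInstance, Groth.L23.lfp_of_lft_locallyNoetherian _, inferInstance,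
    inferInstance⟩

open Groth.L19.Limit in
theorem descends_inf {P P' Q : MorphismProperty Scheme.{u}} [P.IsStableUnderBaseChange]
    [P'.IsStableUnderBaseChange] (h : Descends P Q) (h' : Descends P' Q) : Descends (P ⊓ P') Q := by
  intro I _ _ D c _ hc i _ X a ha hP
  obtain ⟨j, φ, hj⟩ := h hc a ha hP.1
  obtain ⟨j', φ', hj'⟩ := h' hc a ha hP.2
  obtain ⟨k, s, s', hs⟩ := IsCofiltered.cospan φ φ'
  refine ⟨k, s ≫ φ, ?_, ?_⟩
  · rw [Functor.map_comp]
    exact pb_comp _ hj
  · rw [hs, Functor.map_comp]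
    exact pb_comp _ hj'

open Groth.L19.Limit in
theorem exists_flat {X Y : Scheme.{u}} (f : X ⟶ Y) (hY : IsAffine Y ∨ IsNoetherian Y)
    [LocallyOfFinitePresentation f] [QuasiCompact f] [QuasiSeparated f]
    [UniversallyOpen f] [Surjective f] :
    ∃ (Y' : Scheme.{u}) (q : Y' ⟶ Y) (X' : Scheme.{u}) (r : X' ⟶ pullback f q),
      IsProper q ∧ Surjective q ∧ LocallyOfFinitePresentation q ∧
      IsClosedImmersion r ∧ Surjective r ∧
      Flat (r ≫ pullback.snd f q) ∧ Surjective (r ≫ pullback.snd f q) ∧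
      LocallyOfFinitePresentation (r ≫ pullback.snd f q) ∧ QuasiCompact (r ≫ pullback.snd f q) ∧
      QuasiSeparated (r ≫ pullback.snd f q) := by
  rcases hY with hY | hY
  swap
  · exact exists_flat_noetherian f
  let e := Y.isoSpec
  have hqs : Descends (@QuasiSeparated : MorphismProperty Scheme.{u}) qcqsfp.{u} := by
    intro I _ _ D c _ hc i _ Z a ha _
    exact ⟨i, 𝟙 i, MorphismProperty.pullback_fst (P := @QuasiSeparated) _ _ ha.1.2⟩
  obtain ⟨A₀, hA₀, X₀, f₀, g₀, ⟨⟨huo, hsf⟩, hqs₀⟩, h1, h2, hsq⟩ :=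
    Groth.L05.ModelFG.exists_model Γ(Y, ⊤)
      (descends_inf (descends_inf Groth.L09.UnivOpenLimit.descends_universallyOpen
        Groth.L00.LimSurj.descends_surjective) hqs) (f ≫ e.hom) ⟨⟨inferInstance, inferInstance⟩, inferInstance⟩
  haveI := huo
  haveI := hsf
  haveI := hqs₀
  haveI : Algebra.FiniteType ℤ A₀ := A₀.fg_iff_finiteType.mp hA₀
  haveI : IsNoetherianRing A₀ := Algebra.FiniteType.isNoetherianRing ℤ A₀
  obtain ⟨Y₁, q₁, X₁, r₁, hqp, hqs₁, hqfp, hcl, hrs, hfl, hss, hfp, hpqc, hpqs⟩ := exists_flat_noetherian f₀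
  let b : Y ⟶ Spec (CommRingCat.of A₀) :=
    e.hom ≫ Spec.map (CommRingCat.ofHom (algebraMap A₀ Γ(Y, ⊤)))
  have hsq' : IsPullback g₀ f f₀ b :=
    hsq.of_iso (Iso.refl _) (Iso.refl _) e.symm (Iso.refl _) (by simp) (by simp) (by simp) (by simp [b])
  let q := pullback.fst b q₁
  let T := pullback (pullback.snd b q₁) (r₁ ≫ pullback.snd f₀ q₁)
  let n : pullback f q ⟶ pullback f₀ q₁ :=
    pullback.lift (pullback.fst f q ≫ g₀) (pullback.snd f q ≫ pullback.snd b q₁) (by
      rw [Category.assoc, hsq'.w, ← Category.assoc, pullback.condition, Category.assoc, pullback.condition,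
        Category.assoc])
  have hn : IsPullback n (pullback.snd f q) (pullback.snd f₀ q₁) (pullback.snd b q₁) := by
    refine IsPullback.of_right ?_ (pullback.lift_snd _ _ _) (IsPullback.of_hasPullback f₀ q₁)
    rw [pullback.lift_fst, ← pullback.condition]
    exact (IsPullback.of_hasPullback f q).paste_horiz hsq'
  let r : T ⟶ pullback f q := hn.lift (pullback.snd _ _ ≫ r₁) (pullback.fst _ _) (by
    rw [Category.assoc, ← pullback.condition])
  have hr : IsPullback (pullback.snd _ _) r r₁ n :=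
    IsPullback.of_bot (by
      rw [hn.lift_snd]
      exact (IsPullback.of_hasPullback (pullback.snd b q₁) (r₁ ≫ pullback.snd f₀ q₁)).flip)
      (hn.lift_fst _ _ _).symm hn
  have hrsnd : r ≫ pullback.snd f q = pullback.fst (pullback.snd b q₁) (r₁ ≫ pullback.snd f₀ q₁) :=
    hn.lift_snd _ _ _
  refine ⟨pullback b q₁, q, T, r, inferInstance, inferInstance, inferInstance,
    MorphismProperty.of_isPullback (P := @IsClosedImmersion) hr hcl,
    MorphismProperty.of_isPullback (P := @Surjective) hr hrs, ?_, ?_, ?_, ?_, ?_⟩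
  all_goals rw [hrsnd]; infer_instance

end Groth.L06.Subtr
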