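import Groth.Agent.L10.RelPC.FlatQuot
import Groth.Agent.S0406
import Mathlib.RingTheory.Valuation.ValuationSubring
import Mathlib.RingTheory.Flat.TorsionFree
import Mathlib.RingTheory.TensorProduct.MvPolynomial
import Mathlib.RingTheory.TensorProduct.Quotient
import Mathlib.RingTheory.RingHom.Flat

/-!
# The closure of a generic fibre over finitely generated models of a valuation ring
-/

set_option autoImplicit false
set_option linter.style.haveILetI false
set_option maxSynthPendingDepth 3

universe u

open TensorProduct MvPolynomial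

noncomputable section

namespace Groth.L06.Subtr

variable {K : Type u} [Field K]

/-- Base change of a quotient of a polynomial ring. -/
theorem nonempty_tensor_quotient {A C : Type u} [CommRing A] [CommRing C] [Algebra A C] {σ : Type}
    (I : Ideal (MvPolynomial σ A)) :
    Nonempty ((C ⊗[A] (MvPolynomial σ A ⧸ I)) ≃ₗ[C]
      (MvPolynomial σ C ⧸ I.map (MvPolynomial.map (algebraMap A C)))) := by
  refine ⟨((Algebra.TensorProduct.tensorQuotientEquiv (R := A) C (MvPolynomial σ A) C I).trans
    (Ideal.quotientEquivAlg _ _ (MvPolynomial.algebraTensorAlgEquiv A C (σ := σ)) ?_)).toLinearEquiv⟩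
  change I.map (MvPolynomial.map (algebraMap A C)) = (I.map
    (Algebra.TensorProduct.includeRight : MvPolynomial σ A →ₐ[A] C ⊗[A] MvPolynomial σ A).toRingHom).map
      (MvPolynomial.algebraTensorAlgEquiv A C (σ := σ)).toRingEquiv.toRingHom
  rw [Ideal.map_map]
  refine congrArg (fun φ => I.map φ) (MvPolynomial.ringHom_ext (fun a => ?_) fun i => ?_)
  · simp
  · simp

/-- Over finitely generated models of a valuation ring the closure of a generic fibre is flat. -/
theorem exists_finset_flat {S : Type u} [CommRing S] [Algebra K S] {n : ℕ} (r : Fin n → S)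
    (hr : Function.Surjective (aeval r : MvPolynomial (Fin n) K →ₐ[K] S)) (V : ValuationSubring K) :
    ∃ T : Finset K, (T : Set K) ⊆ V ∧ ∀ B : Subring K, (T : Set K) ⊆ B →
      Module.Flat B (Algebra.adjoin B (Set.range r)) := by
  classical
  let P : MvPolynomial (Fin n) V →ₐ[V] S := aeval r
  let J : Ideal (MvPolynomial (Fin n) V) := RingHom.ker P
  haveI : Module.Flat V (MvPolynomial (Fin n) V ⧸ J) := by
    refine (Module.Flat.flat_iff_torsion_eq_bot_of_isBezout).mpr ?_
    rw [← Submodule.isTorsionFree_iff_torsion_eq_bot]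
    refine ⟨fun c hc => ?_⟩
    intro x y hxy
    obtain ⟨x, rfl⟩ := Ideal.Quotient.mk_surjective x
    obtain ⟨y, rfl⟩ := Ideal.Quotient.mk_surjective y
    rw [Ideal.Quotient.eq, RingHom.mem_ker, map_sub, sub_eq_zero]
    have h : P (c • x) = P (c • y) := by
      rw [← sub_eq_zero, ← map_sub, ← RingHom.mem_ker]
      exact Ideal.Quotient.eq.mp hxy
    rw [map_smul, map_smul] at h
    have hc' : (c : K) ≠ 0 := fun h0 => hc.ne_zero (Subtype.ext h0)
    exact (IsUnit.smul_left_cancel (isUnit_iff_ne_zero.mpr hc')).mp h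
  haveI := Groth.Agent.S0406.result (R := V) (S := MvPolynomial (Fin n) V ⧸ J)
  obtain ⟨g, hg⟩ : J.FG := by
    have h := Algebra.FinitePresentation.ker_fG_of_surjective (R := V) (A := MvPolynomial (Fin n) V)
      (B := MvPolynomial (Fin n) V ⧸ J) (f := Ideal.Quotient.mkₐ V J) (hf := Ideal.Quotient.mkₐ_surjective V J)
    have h2 : RingHom.ker (Ideal.Quotient.mkₐ V J).toRingHom = J := Ideal.mk_ker
    rw [h2] at h
    exact h
  let c : Finset V := g.biUnion fun p => p.support.image fun m => p.coeff m
  let A₁ : Subalgebra ℤ V := Algebra.adjoin ℤ (c : Set V)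
  have hex : ∀ p : g, ∃ q : MvPolynomial (Fin n) A₁, MvPolynomial.map (algebraMap A₁ V) q = p.1 := fun p => by
    refine MvPolynomial.mem_range_map_iff_coeffs_subset.mpr ?_
    intro x hx
    obtain ⟨m, hm, rfl⟩ := MvPolynomial.mem_coeffs_iff.mp (Finset.mem_coe.mp hx)
    exact ⟨⟨_, Algebra.subset_adjoin (Finset.mem_biUnion.mpr ⟨p.1, p.2, Finset.mem_image.mpr ⟨m, hm, rfl⟩⟩)⟩, rfl⟩
  choose q hq using hex
  let I : Ideal (MvPolynomial (Fin n) A₁) := Ideal.span (Set.range q)
  have hI : I.map (MvPolynomial.map (algebraMap A₁ V)) = J := by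
    rw [Ideal.map_span, ← hg, ← Set.range_comp]
    congr 1
    ext p
    refine ⟨fun ⟨p', hp'⟩ => ?_, fun hp => ⟨⟨p, hp⟩, hq _⟩⟩
    rw [← hp', Function.comp_apply, hq]
    exact p'.2
  haveI : Module.Flat V (V ⊗[A₁] (MvPolynomial (Fin n) A₁ ⧸ I)) := by
    obtain ⟨e⟩ := nonempty_tensor_quotient (C := V) I
    exact Module.Flat.of_linearEquiv (e.trans ((Submodule.quotEquivOfEq _ _ hI).restrictScalars V))
  haveI : Algebra.FinitePresentation A₁ (MvPolynomial (Fin n) A₁ ⧸ I) :=
    Algebra.FinitePresentation.quotient ⟨(Finset.univ : Finset g).image q, by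
      rw [Finset.coe_image, Finset.coe_univ, Set.image_univ]⟩
  obtain ⟨s, hs⟩ := Groth.L10.RelPC.exists_flat_stage (R := V) (A₁ := A₁)
    (B := MvPolynomial (Fin n) A₁ ⧸ I) (M := MvPolynomial (Fin n) A₁ ⧸ I)
  let T₀ : Finset V := c ∪ s
  refine ⟨T₀.image Subtype.val, fun x hx => ?_, fun B hB => ?_⟩
  · obtain ⟨y, -, rfl⟩ := Finset.mem_image.mp hx
    exact y.2
  have hT : ∀ x ∈ T₀, (x : K) ∈ B := fun x hx => hB (Finset.mem_image_of_mem _ hx)
  let B₀ : Subalgebra ℤ V := subalgebraOfSubring (B.comap V.subtype)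
  have hA₁ : A₁ ≤ B₀ := Algebra.adjoin_le fun x hx => hT x (Finset.mem_union_left _ hx)
  let A₂ : Subalgebra A₁ V :=
    { B₀ with algebraMap_mem' := fun a => hA₁ a.2 }
  haveI := hs A₂ fun x hx => hT x (Finset.mem_union_right _ hx)
  let χ : A₂ →+* B :=
    { toFun := fun x => ⟨(x : V), x.2⟩
      map_one' := rfl
      map_mul' := fun _ _ => rfl
      map_zero' := rfl
      map_add' := fun _ _ => rfl }
  letI : Algebra A₂ B := χ.toAlgebra
  letI : Algebra A₁ B := (χ.comp (algebraMap A₁ A₂)).toAlgebra
  haveI : IsScalarTower A₁ A₂ B := IsScalarTower.of_algebraMap_eq fun _ => rfl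
  haveI : Module.Flat B (B ⊗[A₁] (MvPolynomial (Fin n) A₁ ⧸ I)) :=
    Module.Flat.of_linearEquiv (TensorProduct.AlgebraTensorModule.cancelBaseChange A₁ A₂ B B (MvPolynomial (Fin n) A₁ ⧸ I)).symm
  obtain ⟨e₁⟩ := nonempty_tensor_quotient (C := B) I
  let IB : Ideal (MvPolynomial (Fin n) B) := I.map (MvPolynomial.map (algebraMap A₁ B))
  haveI : Module.Flat B (MvPolynomial (Fin n) B ⧸ IB) := Module.Flat.of_linearEquiv e₁.symm
  let Q : MvPolynomial (Fin n) B →ₐ[B] S := aeval r
  have hker : RingHom.ker Q = IB := by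
    refine le_antisymm (fun p hp => ?_) ?_
    · -- the kernel is the extension to `K` meeting `B`
      have hA : (algebraMap B K).comp (algebraMap A₁ B) = (algebraMap V K).comp (algebraMap A₁ V) := rfl
      let IK : Ideal (MvPolynomial (Fin n) K) := J.map (MvPolynomial.map (algebraMap V K))
      have hpK : MvPolynomial.map (algebraMap B K) p ∈ IK := by
        let p' := MvPolynomial.map (algebraMap B K) p
        obtain ⟨d, hd⟩ := IsLocalization.exist_integer_multiples_of_finset (nonZeroDivisors V)
          (p'.support.image fun m => p'.coeff m)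
        have hd' : ∀ m, ∃ x : V, algebraMap V K x = (d : V) • p'.coeff m := fun m => by
          by_cases hm : m ∈ p'.support
          · exact hd _ (Finset.mem_image.mpr ⟨m, hm, rfl⟩)
          · exact ⟨0, by rw [MvPolynomial.notMem_support_iff.mp hm, smul_zero, map_zero]⟩
        obtain ⟨w, hw⟩ : (d : V) • p' ∈ Set.range (MvPolynomial.map (algebraMap V K)) := by
          refine MvPolynomial.mem_range_map_iff_coeffs_subset.mpr ?_
          intro x hx
          obtain ⟨m, -, rfl⟩ := MvPolynomial.mem_coeffs_iff.mp (Finset.mem_coe.mp hx)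
          obtain ⟨y, hy⟩ := hd' m
          exact ⟨y, hy.trans (MvPolynomial.coeff_smul _ _ _).symm⟩
        have hu : IsUnit (algebraMap V (MvPolynomial (Fin n) K) d) := by
          rw [IsScalarTower.algebraMap_apply V K]
          exact ((IsLocalization.map_units K d)).map _
        rw [show MvPolynomial.map (algebraMap B K) p = p' from rfl,
          ← Ideal.unit_mul_mem_iff_mem IK hu, ← Algebra.smul_def, ← hw]
        refine Ideal.mem_map_of_mem _ ?_
        show P w = 0
        have h1 : P w = (aeval r : MvPolynomial (Fin n) K →ₐ[K] S) (MvPolynomial.map (algebraMap V K) w) := by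
          rw [MvPolynomial.aeval_map_algebraMap]
        rw [h1, hw, show (d : V) • p' = ((d : V) : K) • p' from rfl, map_smul, MvPolynomial.aeval_map_algebraMap]
        rw [show aeval r p = Q p from rfl, show Q p = 0 from hp, smul_zero]
      have hIK : IK = IB.map (MvPolynomial.map (algebraMap B K)) := by
        simp only [IK, IB, ← hI, Ideal.map_map]
        congr 1
        refine MvPolynomial.ringHom_ext (fun a => ?_) fun i => ?_
        · simp only [RingHom.comp_apply, MvPolynomial.map_C]
          rfl
        · simp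
      rw [hIK] at hpK
      have hinj : Function.Injective
          (TensorProduct.mk B K (MvPolynomial (Fin n) B ⧸ IB) 1) := by
        have h := Module.Flat.rTensor_preserves_injective_linearMap (M := MvPolynomial (Fin n) B ⧸ IB)
          (Algebra.linearMap B K) (fun a b h => Subtype.ext h)
        intro a b hab
        have := (h.comp (TensorProduct.lid B (MvPolynomial (Fin n) B ⧸ IB)).symm.injective) (a₁ := a) (a₂ := b) ?_
        · exact this
        simpa using hab
      rw [← Ideal.Quotient.eq_zero_iff_mem]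
      refine hinj ?_
      rw [map_zero]
      let θ : MvPolynomial (Fin n) K →+* K ⊗[B] (MvPolynomial (Fin n) B ⧸ IB) :=
        MvPolynomial.eval₂Hom Algebra.TensorProduct.includeLeftRingHom fun i =>
          (1 : K) ⊗ₜ[B] Ideal.Quotient.mk IB (MvPolynomial.X i)
      have hθ : θ.comp (MvPolynomial.map (algebraMap B K)) =
          (Algebra.TensorProduct.includeRight : _ →ₐ[B] K ⊗[B] (MvPolynomial (Fin n) B ⧸ IB)).toRingHom.comp
            (Ideal.Quotient.mk IB) := by
        refine MvPolynomial.ringHom_ext (fun a => ?_) fun i => ?_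
        · simp only [θ, RingHom.comp_apply, MvPolynomial.map_C, MvPolynomial.eval₂Hom_C]
          show algebraMap B K a ⊗ₜ[B] (1 : MvPolynomial (Fin n) B ⧸ IB) =
            (1 : K) ⊗ₜ[B] algebraMap B (MvPolynomial (Fin n) B ⧸ IB) a
          rw [Algebra.algebraMap_eq_smul_one, Algebra.algebraMap_eq_smul_one, TensorProduct.smul_tmul]
        · simp [θ]
      have h0 : IB.map (MvPolynomial.map (algebraMap B K)) ≤ RingHom.ker θ := by
        rw [Ideal.map_le_iff_le_comap]
        intro x hx
        rw [Ideal.mem_comap, RingHom.mem_ker, ← RingHom.comp_apply, hθ, RingHom.comp_apply,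
          Ideal.Quotient.eq_zero_iff_mem.mpr hx, map_zero]
      exact ((RingHom.congr_fun hθ p).symm.trans (RingHom.mem_ker.mp (h0 hpK)))
    · show (Ideal.span (Set.range q)).map _ ≤ _
      rw [Ideal.map_span, Ideal.span_le]
      rintro _ ⟨_, ⟨k, rfl⟩, rfl⟩
      have h1 : Q (MvPolynomial.map (algebraMap A₁ B) (q k)) = P (MvPolynomial.map (algebraMap A₁ V) (q k)) := by
        simp only [Q, P, MvPolynomial.aeval_def, MvPolynomial.eval₂_map]
        rfl
      show Q _ = 0
      rw [h1, hq]
      exact (hg ▸ Ideal.subset_span k.2 : (k.1 : MvPolynomial (Fin n) V) ∈ J)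
  have hrange : Q.range = Algebra.adjoin B (Set.range r) := (Algebra.adjoin_range_eq_range_aeval B r).symm
  rw [← hrange]
  exact Module.Flat.of_linearEquiv (((Ideal.quotientEquivAlgOfEq B hker.symm).trans
    (Ideal.quotientKerEquivRange Q)).toLinearEquiv).symm

/-- A map of rings read inside the generic fibre is flat. -/
theorem flat_of_range {C Q S : Type u} [CommRing C] [CommRing Q] [CommRing S] [Algebra K S] (ev : C →+* K)
    (hev : Function.Injective ev) (θ : C →+* Q) (ι : Q →+* S) (hι : Function.Injective ι)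
    (hθ : ι.comp θ = (algebraMap K S).comp ev) {n : ℕ} (r : Fin n → S)
    (hrange : ι.range = (Algebra.adjoin ev.range (Set.range r)).toSubring)
    (hflat : Module.Flat ev.range (Algebra.adjoin ev.range (Set.range r))) : θ.Flat := by
  let G := Algebra.adjoin ev.range (Set.range r)
  let e₁ : C ≃+* ev.range := RingEquiv.ofBijective ev.rangeRestrict
    ⟨fun a b h => hev (congrArg Subtype.val h), ev.rangeRestrict_surjective⟩
  have hmem : ∀ x, ι x ∈ G := fun x => by
    rw [← Subalgebra.mem_toSubring, ← hrange]; exact ⟨x, rfl⟩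
  let e₂ : Q ≃+* G := RingEquiv.ofBijective (ι.codRestrict G.toSubring hmem)
    ⟨fun a b h => hι (congrArg Subtype.val h), fun ⟨y, hy⟩ => by
      rw [← Subalgebra.mem_toSubring, ← hrange] at hy
      obtain ⟨x, rfl⟩ := hy
      exact ⟨x, rfl⟩⟩
  have hθ' : θ = (e₂.symm.toRingHom.comp (algebraMap ev.range G)).comp e₁.toRingHom := by
    refine RingHom.ext fun c => hι ?_
    refine (RingHom.congr_fun hθ c).trans ?_
    exact (congrArg Subtype.val (e₂.apply_symm_apply (algebraMap ev.range G (e₁ c)))).symm
  rw [hθ']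
  refine RingHom.Flat.comp (RingHom.Flat.of_bijective e₁.bijective) ?_
  exact RingHom.Flat.comp (RingHom.flat_algebraMap_iff.mpr hflat) (RingHom.Flat.of_bijective e₂.symm.bijective)

end Groth.L06.Subtr
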