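import Groth.Agent.L06.Subtr.Refine
import Groth.Agent.L06.Subtr.FlatImage
import Groth.Agent.L18.SymPowBaseChange
import Mathlib.AlgebraicGeometry.Morphisms.UniversallyOpen

/-!
# Flattening a universally open morphism by the closure of a generic fibre
-/

set_option autoImplicit false
set_option linter.style.haveILetI false
set_option maxSynthPendingDepth 3
set_option backward.isDefEq.respectTransparency.types false

universe u

open CategoryTheory CategoryTheory.Limits AlgebraicGeometry TopologicalSpace MvPolynomial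

noncomputable section

namespace Groth.L06.Subtr

variable {K : Type u} [Field K]

theorem closure_of_isPushout {A B C P : CommRingCat.{u}} {a : A ⟶ B} {b : A ⟶ C} {c : B ⟶ P} {d : C ⟶ P}
    (h : IsPushout a b c d) : Subring.closure (Set.range c ∪ Set.range d) = ⊤ := by
  let H : Subring P := Subring.closure (Set.range c ∪ Set.range d)
  let c' : B ⟶ CommRingCat.of H :=
    CommRingCat.ofHom (c.hom.codRestrict H fun x => Subring.subset_closure (Or.inl ⟨x, rfl⟩))
  let d' : C ⟶ CommRingCat.of H :=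
    CommRingCat.ofHom (d.hom.codRestrict H fun x => Subring.subset_closure (Or.inr ⟨x, rfl⟩))
  have hw : a ≫ c' = b ≫ d' := CommRingCat.hom_ext (RingHom.ext fun x =>
    Subtype.ext (ConcreteCategory.congr_hom h.w x))
  have hm : h.desc c' d' hw ≫ CommRingCat.ofHom H.subtype = 𝟙 P := by
    refine h.hom_ext ?_ ?_
    · rw [h.inl_desc_assoc, Category.comp_id]; rfl
    · rw [h.inr_desc_assoc, Category.comp_id]; rfl
  refine eq_top_iff.mpr fun x _ => ?_
  have hx : (h.desc c' d' hw ≫ CommRingCat.ofHom H.subtype) x = x := ConcreteCategory.congr_hom hm x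
  rw [← hx]
  exact Subtype.coe_prop _

theorem flat_opens_ι_comp {X Y : Scheme.{u}} (m : X ⟶ Y) {O : Y.Opens} (hO : IsAffineOpen O) {V : X.Opens}
    (hV : IsAffineOpen V) (e : V ≤ m ⁻¹ᵁ O) (h : (m.appLE O V e).hom.Flat) : Flat (V.ι ≫ m) := by
  haveI : Flat (Spec.map (m.appLE O V e)) := (HasRingHomProperty.Spec_iff (P := @Flat)).mpr h
  have : V.ι ≫ m = hV.isoSpec.hom ≫ Spec.map (m.appLE O V e) ≫ hO.fromSpec := by
    rw [IsAffineOpen.SpecMap_appLE_fromSpec m hO hV e, ← Category.assoc, IsAffineOpen.isoSpec_hom_fromSpec]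
  rw [this]
  infer_instance

variable [IsAlgClosed K] {X Y : Scheme.{u}} (f : X ⟶ Y) [LocallyOfFinitePresentation f] [QuasiCompact f]

/-- A proper modification over which the closure of a generic fibre is flat. -/
theorem exists_flat_modification [UniversallyOpen f] [Surjective f] [CompactSpace Y]
    (η : Spec (CommRingCat.of K) ⟶ Y) :
    ∃ (Y' : Scheme.{u}) (q : Y' ⟶ Y) (X' : Scheme.{u}) (r : X' ⟶ pullback f q),
      IsProper q ∧ η (IsLocalRing.closedPoint K) ∈ Set.range q ∧ IsClosedImmersion r ∧ Surjective r ∧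
        Flat (r ≫ pullback.snd f q) := by
  classical
  haveI : Subsingleton (Spec (CommRingCat.of K)) := inferInstanceAs (Subsingleton (PrimeSpectrum K))
  obtain ⟨S₀, hS₀⟩ := isCompact_univ.elim_finite_subcover (fun U : Y.affineOpens => (U.1 : Set Y))
    (fun U => U.1.2) (fun y _ => by
      obtain ⟨_, ⟨U, hU, rfl⟩, hy, -⟩ :=
        Y.isBasis_affineOpens.exists_subset_of_mem_open (Set.mem_univ y) isOpen_univ
      exact Set.mem_iUnion.mpr ⟨⟨U, hU⟩, hy⟩)
  let I := {U : Y.affineOpens // U ∈ S₀ ∧ η (IsLocalRing.closedPoint K) ∈ U.1}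
  haveI : Finite I := Finite.of_injective (fun i => (⟨i.1, i.2.1⟩ : S₀)) fun a b hab =>
    Subtype.ext (congrArg (fun z : S₀ => z.1) hab :)
  have hη : ∀ i : I, ⊤ ≤ η ⁻¹ᵁ i.1.1 := fun i => top_le_of_mem η _ i.2.2
  have hW₀ : ∀ i : I, ∃ S : Finset {W : X.affineOpens // (W : X.Opens) ≤ f ⁻¹ᵁ i.1.1},
      (f ⁻¹' (i.1.1 : Set Y)) ⊆ ⋃ W ∈ S, (W.1.1 : Set X) := fun i =>
    (f.isCompact_preimage i.1.2.isCompact).elim_finite_subcover _ (fun W => W.1.1.2) fun x hx => by
      obtain ⟨_, ⟨W, hW, rfl⟩, hxW, hle⟩ :=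
        X.isBasis_affineOpens.exists_subset_of_mem_open hx (f ⁻¹ᵁ i.1.1).2
      exact Set.mem_iUnion.mpr ⟨⟨⟨W, hW⟩, hle⟩, hxW⟩
  choose SW hSW using hW₀
  let J := Σ i : I, SW i
  let P := pullback f η
  let Ω₀ : J → P.Opens := fun k => pullback.fst f η ⁻¹ᵁ k.2.1.1.1 ⊓ pullback.snd f η ⁻¹ᵁ ⊤
  letI algK : ∀ k : J, Algebra K Γ(P, Ω₀ k) := fun k =>
    ((Scheme.ΓSpecIso (CommRingCat.of K)).inv ≫ (pullback.snd f η).appLE ⊤ (Ω₀ k) inf_le_right).hom.toAlgebra
  let ρ : ∀ k : J, Γ(X, k.2.1.1.1) →+* Γ(P, Ω₀ k) := fun k =>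
    ((pullback.fst f η).appLE k.2.1.1.1 (Ω₀ k) inf_le_left).hom
  have hρ : ∀ (k : J) (a : Γ(Y, k.1.1.1)), ρ k (f.appLE k.1.1.1 k.2.1.1.1 k.2.1.2 a) =
      algebraMap K Γ(P, Ω₀ k) (ev η k.1.1.1 (hη k.1) a) := fun k a => by
    show ((f.appLE k.1.1.1 k.2.1.1.1 k.2.1.2) ≫ (pullback.fst f η).appLE k.2.1.1.1 (Ω₀ k) inf_le_left) a =
      ((η.appLE k.1.1.1 ⊤ (hη k.1) ≫ (Scheme.ΓSpecIso (CommRingCat.of K)).hom) ≫
        (Scheme.ΓSpecIso (CommRingCat.of K)).inv ≫ (pullback.snd f η).appLE ⊤ (Ω₀ k) inf_le_right) a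
    rw [Category.assoc, Iso.hom_inv_id_assoc, Scheme.Hom.appLE_comp_appLE, Scheme.Hom.appLE_comp_appLE]
    congr 2
    simp only [pullback.condition]
  have hgen : ∀ k : J, ∃ (n : ℕ) (g : Fin n → Γ(X, k.2.1.1.1)), ∀ (H : Subring Γ(X, k.2.1.1.1)),
      Set.range (f.appLE k.1.1.1 k.2.1.1.1 k.2.1.2) ⊆ H → Set.range g ⊆ H → H = ⊤ := fun k => by
    have hft : (f.appLE k.1.1.1 k.2.1.1.1 k.2.1.2).hom.FiniteType :=
      HasRingHomProperty.appLE @LocallyOfFiniteType f inferInstance k.1.1 k.2.1.1 k.2.1.2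
    letI := (f.appLE k.1.1.1 k.2.1.1.1 k.2.1.2).hom.toAlgebra
    obtain ⟨G, hG⟩ := (show Algebra.FiniteType Γ(Y, k.1.1.1) Γ(X, k.2.1.1.1) from hft).out
    refine ⟨G.card, fun i => (G.equivFin.symm i).1, fun H h1 h2 => eq_top_iff.mpr fun x _ => ?_⟩
    have hx : x ∈ Algebra.adjoin Γ(Y, k.1.1.1) (G : Set Γ(X, k.2.1.1.1)) := hG ▸ Algebra.mem_top
    rw [← Subalgebra.mem_toSubring, Algebra.adjoin_eq_ring_closure] at hx
    refine (Subring.closure_le.mpr (Set.union_subset h1 fun g hg => h2 ⟨G.equivFin ⟨g, hg⟩, ?_⟩)) hx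
    exact congrArg Subtype.val (G.equivFin.symm_apply_apply ⟨g, hg⟩)
  choose n g hg using hgen
  have hsurj : ∀ k : J, Function.Surjective
      (aeval (fun i => ρ k (g k i)) : MvPolynomial (Fin (n k)) K →ₐ[K] Γ(P, Ω₀ k)) := fun k => by
    obtain ⟨-, hpo⟩ := Groth.L18.SymPow.isPushout_appLE (IsPullback.of_hasPullback f η) k.1.1.2
      (isAffineOpen_top (Spec (CommRingCat.of K))) k.2.1.1.2 (hη k.1) k.2.1.2 (W := Ω₀ k) rfl
    intro x
    suffices h : Subring.closure (_ ∪ _) ≤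
        (aeval (fun i => ρ k (g k i)) : MvPolynomial (Fin (n k)) K →ₐ[K] Γ(P, Ω₀ k)).range.toSubring by
      exact h ((closure_of_isPushout hpo).ge (trivial : x ∈ (⊤ : Subring _)))
    rw [Subring.closure_le]
    rintro _ (⟨a, rfl⟩ | ⟨c, rfl⟩)
    · refine (hg k (Subring.comap (ρ k)
        (aeval (fun i => ρ k (g k i)) : MvPolynomial (Fin (n k)) K →ₐ[K] Γ(P, Ω₀ k)).range.toSubring) ?_ ?_).ge
        (trivial : a ∈ (⊤ : Subring _))
      · rintro _ ⟨b, rfl⟩
        exact ⟨MvPolynomial.C (ev η k.1.1.1 (hη k.1) b), (MvPolynomial.aeval_C _ _).trans (hρ k b).symm⟩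
      · rintro _ ⟨i, rfl⟩
        exact ⟨MvPolynomial.X i, aeval_X _ _⟩
    · refine ⟨MvPolynomial.C ((Scheme.ΓSpecIso (CommRingCat.of K)).hom c), (MvPolynomial.aeval_C _ _).trans ?_⟩
      exact congrArg ((pullback.snd f η).appLE ⊤ (Ω₀ k) inf_le_right)
        (ConcreteCategory.congr_hom (Scheme.ΓSpecIso (CommRingCat.of K)).hom_inv_id c)
  let Good : J → Finset K → Prop := fun k T => ∀ B : Subring K, (T : Set K) ⊆ B →
    Module.Flat B (Algebra.adjoin B (Set.range fun i => ρ k (g k i)))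
  choose S hS using fun k : J => exists_finset_of_forall (Set.range (ev η k.1.1.1 (hη k.1)))
    (fun T : {T : Finset K // Good k T} => T.1) (fun V _ => by
      obtain ⟨T, hT, hflat⟩ := exists_finset_flat _ (hsurj k) V
      exact ⟨⟨T, hflat⟩, hT⟩)
  haveI := Fintype.ofFinite J
  let T₀ : Finset K := Finset.univ.biUnion fun k => (S k).biUnion fun T => T.1
  obtain ⟨Y₁, q₁, e₁, hq₁, he₁, hreg₁⟩ := exists_regular η T₀
  haveI := quasiCompact_of_point e₁
  let e := e₁.toImage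
  let q : e₁.image ⟶ Y := e₁.imageι ≫ q₁
  have he : e ≫ q = η := by rw [← Category.assoc, Scheme.Hom.toImage_imageι, he₁]
  have hreg : ∀ t ∈ T₀, IsRegular e t := fun t ht => (hreg₁ t ht).pullback e e₁.imageι e₁.toImage_imageι
  choose O hO hOt hOc using hreg
  let j : P ⟶ pullback f q := pullback.lift (pullback.fst f η) (pullback.snd f η ≫ e)
    (by rw [pullback.condition, Category.assoc, he])
  have hsq : IsPullback j (pullback.snd f η) (pullback.snd f q) e := by
    refine IsPullback.of_right ?_ (pullback.lift_snd _ _ _) (IsPullback.of_hasPullback f q)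
    rw [pullback.lift_fst, he]
    exact IsPullback.of_hasPullback f η
  haveI : QuasiCompact j := MorphismProperty.of_isPullback hsq.flip inferInstance
  have hdense : ∀ y : e₁.image, e (IsLocalRing.closedPoint K) ⤳ y := fun y => by
    rw [specializes_iff_mem_closure]
    have hr' : Set.range e = {e (IsLocalRing.closedPoint K)} :=
      Set.eq_singleton_iff_unique_mem.mpr
        ⟨⟨_, rfl⟩, fun _ ⟨x, hx⟩ => hx ▸ congrArg e (Subsingleton.elim _ _)⟩
    exact hr' ▸ e.denseRange y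
  refine ⟨e₁.image, q, j.image, j.imageι, inferInstance,
    ⟨e (IsLocalRing.closedPoint K), by rw [← Scheme.Hom.comp_apply, he]⟩, inferInstance, ⟨fun z => ?_⟩, ?_⟩
  · -- the generic fibre is dense
    suffices h : z ∈ Set.range j.imageι from h
    rw [Scheme.IdealSheafData.range_subschemeι, Scheme.Hom.support_ker]
    have hr : Set.range j = pullback.snd f q ⁻¹' Set.range e := by
      rw [← hsq.isoPullback_hom_fst, Scheme.Hom.comp_base, TopCat.coe_comp, Set.range_comp,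
        Set.range_eq_univ.mpr hsq.isoPullback.hom.surjective, Set.image_univ]
      exact Scheme.Pullback.range_fst _ _
    rw [hr, ← (pullback.snd f q).isOpenMap.preimage_closure_eq_closure_preimage (pullback.snd f q).continuous]
    exact e.denseRange _
  -- flatness
  have key : ∀ z : ↥(pullback f q), ∃ (Ω : (pullback f q).Opens), z ∈ Ω ∧
      Flat ((j.imageι ⁻¹ᵁ Ω).ι ≫ j.imageι ≫ pullback.snd f q) := fun z => by
    let x := pullback.fst f q z
    let y := pullback.snd f q z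
    obtain ⟨U, hU⟩ := Set.mem_iUnion₂.mp (hS₀ (Set.mem_univ (q y)))
    have hηU : η (IsLocalRing.closedPoint K) ∈ U.1 := by
      rw [← he, Scheme.Hom.comp_apply]
      exact ((hdense y).map q.continuous).mem_open U.1.2 hU.2
    let i : I := ⟨U, hU.1, hηU⟩
    obtain ⟨W, hW⟩ := Set.mem_iUnion₂.mp (hSW i (show f x ∈ i.1.1 by
      rw [← Scheme.Hom.comp_apply, pullback.condition, Scheme.Hom.comp_apply]; exact hU.2))
    let k : J := ⟨i, W, hW.1⟩
    obtain ⟨V, c, hc, hcy⟩ := exists_center e y (hdense y)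
    have hA : Set.range (ev η i.1.1 (hη i)) ⊆ V := by
      rintro _ ⟨a, rfl⟩
      exact range_ev_le_of_center η V (c ≫ q) (by rw [← Category.assoc, hc, he]) i.1.1 (hη i)
        (by rw [Scheme.Hom.comp_apply, hcy]; exact hU.2) ⟨a, rfl⟩
    obtain ⟨T, hT, hTV⟩ := hS k V hA
    have hT₀ : ∀ t ∈ T.1, t ∈ T₀ := fun t ht =>
      Finset.mem_biUnion.mpr ⟨k, Finset.mem_univ _, Finset.mem_biUnion.mpr ⟨T, hT, ht⟩⟩
    let N : e₁.image.Opens := q ⁻¹ᵁ i.1.1 ⊓
      ⟨⋂ t : T.1, (O t.1 (hT₀ t.1 t.2) : Set e₁.image), isOpen_iInter_of_finite fun t => (O _ _).2⟩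
    have hyN : y ∈ N := ⟨hU.2, Set.mem_iInter.mpr fun t => hcy ▸ hOc t.1 _ V c (hTV t.2) hc⟩
    obtain ⟨_, ⟨O', hO', rfl⟩, hyO', hO'N⟩ :=
      e₁.image.isBasis_affineOpens.exists_subset_of_mem_open hyN N.2
    have hleU : O' ≤ q ⁻¹ᵁ i.1.1 := fun w hw => (hO'N hw).1
    have heO : ⊤ ≤ e ⁻¹ᵁ O' := top_le_of_mem e _ ((hdense y).mem_open O'.2 hyO')
    let Ω : (pullback f q).Opens := pullback.fst f q ⁻¹ᵁ W.1.1 ⊓ pullback.snd f q ⁻¹ᵁ O'
    obtain ⟨hΩ, hpo⟩ := Groth.L18.SymPow.isPushout_appLE (IsPullback.of_hasPullback f q) i.1.2 hO' W.1.2 hleU W.2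
      (W := Ω) rfl
    refine ⟨Ω, ⟨hW.2, hyO'⟩, ?_⟩
    have hjΩ : j ⁻¹ᵁ Ω = Ω₀ k := by
      ext w
      show pullback.fst f q (j w) ∈ W.1.1 ∧ pullback.snd f q (j w) ∈ O' ↔ pullback.fst f η w ∈ W.1.1 ∧ True
      rw [← Scheme.Hom.comp_apply, pullback.lift_fst, ← Scheme.Hom.comp_apply j, pullback.lift_snd,
        Scheme.Hom.comp_apply]
      exact ⟨fun h => ⟨h.1, trivial⟩, fun h => ⟨h.1, heO trivial⟩⟩
    let Z := j.imageι ⁻¹ᵁ Ω
    have hZ : Ω₀ k ≤ j.toImage ⁻¹ᵁ Z := by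
      rw [← hjΩ, ← Scheme.Hom.comp_preimage, Scheme.Hom.toImage_imageι]
    refine flat_opens_ι_comp (j.imageι ≫ pullback.snd f q) hO' (hΩ.preimage j.imageι)
      (show Z ≤ (j.imageι ≫ pullback.snd f q) ⁻¹ᵁ O' from fun w hw => hw.2) ?_
    refine flat_of_range (K := K) (ev e O' heO) (ev_toImage_injective e₁ O' heO) _
      (j.toImage.appLE Z (Ω₀ k) hZ).hom ?_ ?_ (fun i => ρ k (g k i)) ?_ ?_
    · -- injectivity
      have h1 : Function.Injective (j.toImage.app Z) := j.toImage_app_injective ⟨Ω, hΩ⟩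
      haveI : IsIso (P.presheaf.map (homOfLE hZ).op) := by
        have e' : j.toImage ⁻¹ᵁ Z = Ω₀ k := by
          rw [← hjΩ, ← Scheme.Hom.comp_preimage, Scheme.Hom.toImage_imageι]
        rw [show (homOfLE hZ).op = eqToHom (by rw [e']) from Subsingleton.elim _ _]
        infer_instance
      exact ((ConcreteCategory.bijective_of_isIso (P.presheaf.map (homOfLE hZ).op)).1).comp h1
    · -- compatibility
      show ((j.imageι ≫ pullback.snd f q).appLE O' Z _ ≫ j.toImage.appLE Z (Ω₀ k) hZ).hom =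
        ((e.appLE O' ⊤ heO ≫ (Scheme.ΓSpecIso (CommRingCat.of K)).hom) ≫
          (Scheme.ΓSpecIso (CommRingCat.of K)).inv ≫ (pullback.snd f η).appLE ⊤ (Ω₀ k) inf_le_right).hom
      congr 1
      rw [Category.assoc, Iso.hom_inv_id_assoc, Scheme.Hom.appLE_comp_appLE, Scheme.Hom.appLE_comp_appLE]
      congr 1
      rw [Scheme.Hom.toImage_imageι_assoc, pullback.lift_snd]
    · -- the image
      have hρ' : ∀ a : Γ(X, W.1.1), j.toImage.appLE Z (Ω₀ k) hZ ((j.imageι.app Ω)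
          ((pullback.fst f q).appLE W.1.1 Ω inf_le_left a)) = ρ k a := fun a => by
        show ((pullback.fst f q).appLE W.1.1 Ω inf_le_left ≫ j.imageι.app Ω ≫ j.toImage.appLE Z (Ω₀ k) hZ) a = _
        rw [Scheme.Hom.app_eq_appLE, Scheme.Hom.appLE_comp_appLE, Scheme.Hom.appLE_comp_appLE]
        show _ = ((pullback.fst f η).appLE W.1.1 (Ω₀ k) inf_le_left) a
        congr 2
        simp only [Scheme.Hom.toImage_imageι]
        congr 1
        rw [pullback.lift_fst]
      have hσ : ∀ c : Γ(e₁.image, O'), j.toImage.appLE Z (Ω₀ k) hZ ((j.imageι.app Ω)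
          ((pullback.snd f q).appLE O' Ω inf_le_right c)) = algebraMap K Γ(P, Ω₀ k) (ev e O' heO c) := fun c => by
        show ((pullback.snd f q).appLE O' Ω inf_le_right ≫ j.imageι.app Ω ≫ j.toImage.appLE Z (Ω₀ k) hZ) c =
          ((e.appLE O' ⊤ heO ≫ (Scheme.ΓSpecIso (CommRingCat.of K)).hom) ≫
          (Scheme.ΓSpecIso (CommRingCat.of K)).inv ≫ (pullback.snd f η).appLE ⊤ (Ω₀ k) inf_le_right) c
        rw [Category.assoc, Iso.hom_inv_id_assoc, Scheme.Hom.app_eq_appLE, Scheme.Hom.appLE_comp_appLE,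
          Scheme.Hom.appLE_comp_appLE, Scheme.Hom.appLE_comp_appLE]
        congr 2
        simp only [Scheme.Hom.toImage_imageι]
        congr 1
        rw [pullback.lift_snd]
      refine le_antisymm ?_ ?_
      · rintro _ ⟨z', rfl⟩
        obtain ⟨w, rfl⟩ := Scheme.IdealSheafData.subschemeι_app_surjective _ ⟨Ω, hΩ⟩ z'
        have hw : w ∈ Subring.closure (_ ∪ _) := (closure_of_isPushout hpo).ge (trivial : w ∈ (⊤ : Subring _))
        refine (Subring.closure_le (t := Subring.comap ((j.imageι.app Ω ≫ j.toImage.appLE Z (Ω₀ k) hZ).hom)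
          (Algebra.adjoin (ev e O' heO).range (Set.range fun i => ρ k (g k i))).toSubring)).mpr ?_ hw
        rintro _ (⟨a, rfl⟩ | ⟨c, rfl⟩)
        · rw [SetLike.mem_coe, Subring.mem_comap, CommRingCat.hom_comp, RingHom.comp_apply]
          rw [hρ']
          refine (hg k (Subring.comap (ρ k)
            (Algebra.adjoin (ev e O' heO).range (Set.range fun i => ρ k (g k i))).toSubring) ?_ ?_).ge
            (trivial : a ∈ (⊤ : Subring _))
          · rintro _ ⟨b, rfl⟩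
            rw [SetLike.mem_coe, Subring.mem_comap, hρ k b]
            exact Subalgebra.algebraMap_mem _ (⟨_, range_ev_mono e q η he hleU (hη i) heO ⟨b, rfl⟩⟩ :
              (ev e O' heO).range)
          · rintro _ ⟨l, rfl⟩
            exact Algebra.subset_adjoin ⟨l, rfl⟩
        · rw [SetLike.mem_coe, Subring.mem_comap, CommRingCat.hom_comp, RingHom.comp_apply]
          rw [hσ]
          exact Subalgebra.algebraMap_mem _ (⟨_, c, rfl⟩ : (ev e O' heO).range)
      · intro s hs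
        refine Algebra.adjoin_induction (p := fun s _ => s ∈ (j.toImage.appLE Z (Ω₀ k) hZ).hom.range)
          ?_ ?_ (fun _ _ _ _ h1 h2 => add_mem h1 h2) (fun _ _ _ _ h1 h2 => mul_mem h1 h2) hs
        · rintro _ ⟨l, rfl⟩
          exact ⟨_, hρ' (g k l)⟩
        · rintro ⟨_, c, rfl⟩
          exact ⟨_, hσ c⟩
    · refine T.2 _ fun t ht => ?_
      exact range_ev_mono e (𝟙 _) e (Category.comp_id _)
        (show O' ≤ 𝟙 e₁.image ⁻¹ᵁ O t (hT₀ t ht) from fun w hw => Set.mem_iInter.mp (hO'N hw).2 ⟨t, ht⟩)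
        (hO t (hT₀ t ht)) heO (hOt t (hT₀ t ht))
  choose Ω hΩ hfl using key
  refine IsZariskiLocalAtSource.of_openCover (P := @Flat) (j.image.openCoverOfIsOpenCover
    (fun z : ↥(pullback f q) => j.imageι ⁻¹ᵁ Ω z)
    (IsOpenCover.mk (top_le_iff.mp fun w _ => Opens.mem_iSup.mpr ⟨j.imageι w, hΩ _⟩))) fun z => hfl z

end Groth.L06.Subtr
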