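import Groth.Agent.L09.Subtr
import Groth.Agent.L20.IntCover.Ring
import Groth.Agent.S0429
import Mathlib.FieldTheory.IsAlgClosed.Basic

/-!
# Points over valuation rings with algebraically closed fraction field
-/

set_option autoImplicit false
set_option linter.style.haveILetI false
set_option backward.isDefEq.respectTransparency.types false

universe u

open CategoryTheory CategoryTheory.Limits AlgebraicGeometry TopologicalSpace Polynomial

namespace Groth.L06.Subtr

theorem hasRoots {V K : Type u} [CommRing V] [IsDomain V] [ValuationRing V] [Field K] [Algebra V K]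
    [IsFractionRing V K] [IsAlgClosed K] : Groth.L20.IntCover.HasRoots V := by
  intro f hf hd
  obtain ⟨x, hx⟩ := IsAlgClosed.exists_aeval_eq_zero K f fun h => by
    have := Polynomial.natDegree_eq_zero_iff_degree_le_zero.2 h.le
    omega
  obtain ⟨v, rfl⟩ := IsIntegrallyClosed.algebraMap_eq_of_integral (R := V) ⟨f, hf, hx⟩
  exact ⟨v, IsFractionRing.injective V K (by rwa [map_zero, ← aeval_algebraMap_apply_eq_algebraMap_eval])⟩

/-- An fp universally S-subtrusive scheme over such a ring has a section. -/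
theorem exists_section {V K : Type u} [CommRing V] [IsDomain V] [ValuationRing V] [Field K] [Algebra V K]
    [IsFractionRing V K] [IsAlgClosed K] {X : Scheme.{u}} (f : X ⟶ Spec (CommRingCat.of V))
    [LocallyOfFinitePresentation f] (hf : Subtr.UnivSSubtrusive f) :
    ∃ s : Spec (CommRingCat.of V) ⟶ X, s ≫ f = 𝟙 _ := by
  obtain ⟨V', _, _, _, a, b, hb, hab⟩ :=
    Groth.L09.Subtr.exists_lift_valuation (𝟙 _) (Groth.L09.Subtr.univ_snd hf (𝟙 (Spec (CommRingCat.of V))))
  rw [Category.comp_id] at hab
  haveI : Surjective (a ≫ f) := hab ▸ hb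
  obtain ⟨Z, i, hi, hflat, hsurj⟩ := Groth.L09.Subtr.exists_flat_closed f a
  haveI : LocallyOfFinitePresentation (i ≫ f) := Groth.Agent.S0429.result (i ≫ f)
  obtain ⟨z, hz⟩ := (i ≫ f).surjective (IsLocalRing.closedPoint V)
  obtain ⟨_, ⟨W, hW, rfl⟩, hzW, -⟩ :=
    Z.isBasis_affineOpens.exists_subset_of_mem_open (Set.mem_univ z) isOpen_univ
  obtain ⟨φ, hφ⟩ := Spec.map_surjective (hW.fromSpec ≫ i ≫ f)
  obtain ⟨w, hw⟩ := hW.range_fromSpec.ge hzW
  haveI : Flat (Spec.map φ) := by rw [hφ]; infer_instance
  haveI : LocallyOfFinitePresentation (Spec.map φ) := by rw [hφ]; infer_instance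
  letI : Algebra V Γ(Z, W) := φ.hom.toAlgebra
  haveI : Module.Flat V Γ(Z, W) := by
    have h := (HasRingHomProperty.Spec_iff (P := @Flat) (φ := φ)).mp ‹_›
    exact h
  haveI : Algebra.FinitePresentation V Γ(Z, W) := by
    have h := (HasRingHomProperty.Spec_iff (P := @LocallyOfFinitePresentation) (φ := φ)).mp ‹_›
    exact h
  obtain ⟨ψ⟩ := Groth.L20.IntCover.exists_algHom_local (A := V) (R := Γ(Z, W)) (L := V)
    (hasRoots (K := K)) w (by
      show Spec.map φ w = _
      rw [hφ, Scheme.Hom.comp_apply, hw, hz]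
      exact PrimeSpectrum.ext (Ideal.comap_id _).symm)
  refine ⟨Spec.map (CommRingCat.ofHom ψ.toRingHom) ≫ hW.fromSpec ≫ i, ?_⟩
  rw [Category.assoc, Category.assoc, ← hφ, ← Spec.map_comp, ← Spec.map_id]
  exact congrArg Spec.map (CommRingCat.hom_ext (RingHom.ext ψ.commutes))

/-- Points of an fp universally S-subtrusive morphism over such a ring. -/
theorem exists_point {V K : Type u} [CommRing V] [IsDomain V] [ValuationRing V] [Field K] [Algebra V K]
    [IsFractionRing V K] [IsAlgClosed K] {X Y : Scheme.{u}} (f : X ⟶ Y)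
    [LocallyOfFinitePresentation f] (hf : Subtr.UnivSSubtrusive f) (g : Spec (CommRingCat.of V) ⟶ Y) :
    ∃ s : Spec (CommRingCat.of V) ⟶ X, s ≫ f = g := by
  haveI : MorphismProperty.IsStableUnderBaseChange Subtr.UnivSSubtrusive.{u} :=
    MorphismProperty.universally_isStableUnderBaseChange _
  obtain ⟨s, hs⟩ := exists_section (K := K) (pullback.snd f g) (MorphismProperty.pullback_snd f g hf)
  exact ⟨s ≫ pullback.fst f g, by rw [Category.assoc, pullback.condition, ← Category.assoc, hs, Category.id_comp]⟩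

end Groth.L06.Subtr
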