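import Groth.Agent.L06.Subtr.Compact
import Groth.Agent.L06.Subtr.ValPt
import Groth.Agent.L06.Subtr.Chart

/-!
# Local sections over a proper modification with a given point
-/

set_option autoImplicit false
set_option linter.style.haveILetI false
set_option backward.isDefEq.respectTransparency.types false

universe u

open CategoryTheory CategoryTheory.Limits AlgebraicGeometry TopologicalSpace

noncomputable section

namespace Groth.L06.Subtr

variable {K : Type u} [Field K]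

theorem top_le_of_mem {Y : Scheme.{u}} (e : Spec (CommRingCat.of K) ⟶ Y) {O : Y.Opens} (x : Spec (CommRingCat.of K))
    (hx : e x ∈ O) : ⊤ ≤ e ⁻¹ᵁ O := fun y _ => by
  haveI : Subsingleton (Spec (CommRingCat.of K)) := inferInstanceAs (Subsingleton (PrimeSpectrum K))
  rw [Subsingleton.elim y x]
  exact hx

theorem range_ev_le_of_center {Y : Scheme.{u}} (e : Spec (CommRingCat.of K) ⟶ Y) (V : ValuationSubring K)
    (c : Spec (CommRingCat.of V) ⟶ Y) (hc : gen V ≫ c = e) (O : Y.Opens) (h : ⊤ ≤ e ⁻¹ᵁ O)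
    (hO : c (IsLocalRing.closedPoint V) ∈ O) : (ev e O h).range ≤ V.toSubring := by
  rintro _ ⟨a, rfl⟩
  have hc' : ⊤ ≤ c ⁻¹ᵁ O := fun x _ =>
    ((IsLocalRing.specializes_closedPoint (R := V) x).map c.continuous).mem_open O.2 hO
  rw [← ev_comp (gen V) c e hc hc' h (fun _ _ => trivial), RingHom.comp_apply]
  have h2 := ConcreteCategory.congr_hom
    (Scheme.ΓSpecIso_naturality (CommRingCat.ofHom V.subtype)) ((c.appLE O ⊤ hc').hom a)
  show (Scheme.ΓSpecIso (CommRingCat.of K)).hom ((gen V).appLE ⊤ ⊤ _ _) ∈ V.toSubring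
  rw [show (gen V).appLE ⊤ ⊤ (fun _ _ => trivial) = (gen V).appTop by
    rw [Scheme.Hom.appLE, Scheme.Hom.appTop]; simp]
  exact h2 ▸ Subtype.coe_prop _

theorem quasiCompact_of_point {Y : Scheme.{u}} (e : Spec (CommRingCat.of K) ⟶ Y) : QuasiCompact e := by
  haveI : Subsingleton (Spec (CommRingCat.of K)) := inferInstanceAs (Subsingleton (PrimeSpectrum K))
  exact ⟨fun U _ _ => (Set.toFinite _).isCompact⟩

theorem ev_toImage_injective {Y : Scheme.{u}} (e : Spec (CommRingCat.of K) ⟶ Y) [QuasiCompact e] (O : e.image.Opens)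
    (h : ⊤ ≤ e.toImage ⁻¹ᵁ O) : Function.Injective (ev e.toImage O h) := by
  have hi : Function.Injective (e.toImage.app O) :=
    TopCat.Presheaf.app_injective_of_stalkFunctor_map_injective
      (F := (⟨e.image.presheaf, e.image.IsSheaf⟩ : TopCat.Sheaf CommRingCat e.image.toTopCat)) e.toImage.c O
      fun x _ => e.stalkFunctor_toImage_injective x
  show Function.Injective (e.toImage.appLE O ⊤ h ≫ (Scheme.ΓSpecIso (CommRingCat.of K)).hom)
  haveI : IsIso ((Spec (CommRingCat.of K)).presheaf.map (homOfLE h).op) := by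
    have e' : e.toImage ⁻¹ᵁ O = ⊤ := top_le_iff.mp h
    rw [show (homOfLE h).op = eqToHom (by rw [e']) from Subsingleton.elim _ _]
    infer_instance
  exact (ConcreteCategory.bijective_of_isIso
    ((Spec (CommRingCat.of K)).presheaf.map (homOfLE h).op ≫ (Scheme.ΓSpecIso (CommRingCat.of K)).hom)).1.comp hi

/-- A valuation ring centred at a point of the closure of a `K`-point. -/
theorem exists_center {Y : Scheme.{u}} (e : Spec (CommRingCat.of K) ⟶ Y) (y : Y)
    (h : e (IsLocalRing.closedPoint K) ⤳ y) :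
    ∃ (V : ValuationSubring K) (c : Spec (CommRingCat.of V) ⟶ Y), gen V ≫ c = e ∧
      c (IsLocalRing.closedPoint V) = y := by
  let γ : Y.presheaf.stalk y ⟶ CommRingCat.of K := Y.presheaf.stalkSpecializes h ≫ Scheme.stalkClosedPointTo e
  obtain ⟨V, hV, hloc⟩ := IsLocalRing.exists_factor_valuationRing γ.hom
  let γ' : Y.presheaf.stalk y ⟶ CommRingCat.of V := CommRingCat.ofHom (γ.hom.codRestrict V.toSubring hV)
  refine ⟨V, Spec.map γ' ≫ Y.fromSpecStalk y, ?_, ?_⟩
  · rw [← Category.assoc, ← Spec.map_comp,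
      show γ' ≫ CommRingCat.ofHom V.subtype = γ from CommRingCat.hom_ext (RingHom.ext fun _ => rfl),
      Spec.map_comp, Category.assoc, Scheme.SpecMap_stalkSpecializes_fromSpecStalk,
      Scheme.Spec_stalkClosedPointTo_fromSpecStalk]
  · rw [Scheme.Hom.comp_apply]
    have : Spec.map γ' (IsLocalRing.closedPoint V) = IsLocalRing.closedPoint (Y.presheaf.stalk y) :=
      IsLocalRing.comap_closedPoint (S := V) (γ.hom.codRestrict V.toSubring hV)
    rw [this, Scheme.fromSpecStalk_closedPoint]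

/-- Index data: an affine chart of `X` with a `K`-point given by the elements of `T`. -/
def HasChart {X Y : Scheme.{u}} (f : X ⟶ Y) (η : Spec (CommRingCat.of K) ⟶ Y) (U : Y.Opens) (h : ⊤ ≤ η ⁻¹ᵁ U)
    (T : Finset K) : Prop :=
  ∃ (U' : X.Opens) (_ : IsAffineOpen U') (e : U' ≤ f ⁻¹ᵁ U) (φ : Γ(X, U') →+* K),
    φ.comp (f.appLE U U' e).hom = ev η U h ∧
      φ.range ≤ Subring.closure (Set.range (ev η U h) ∪ (T : Set K))

theorem exists_chart_finset [IsAlgClosed K] {X Y : Scheme.{u}} (f : X ⟶ Y) [LocallyOfFinitePresentation f]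
    (hf : Subtr.UnivSSubtrusive f) (η : Spec (CommRingCat.of K) ⟶ Y) (U : Y.Opens) (hU : IsAffineOpen U)
    (h : ⊤ ≤ η ⁻¹ᵁ U) (V : ValuationSubring K) (hV : Set.range (ev η U h) ⊆ V) :
    ∃ T : {T : Finset K // HasChart f η U h T}, (T.1 : Set K) ⊆ V := by
  classical
  let ψ : Γ(Y, U) ⟶ CommRingCat.of V :=
    CommRingCat.ofHom ((ev η U h).codRestrict V.toSubring fun a => hV ⟨a, rfl⟩)
  obtain ⟨s, hs⟩ := exists_point (V := V) (K := K) f hf (Spec.map ψ ≫ hU.fromSpec)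
  have hsU : s (IsLocalRing.closedPoint V) ∈ f ⁻¹ᵁ U := by
    show f (s (IsLocalRing.closedPoint V)) ∈ U
    rw [← Scheme.Hom.comp_apply, hs]
    exact hU.range_fromSpec.le ⟨_, rfl⟩
  obtain ⟨_, ⟨U', hU', rfl⟩, hsU', hle⟩ :=
    X.isBasis_affineOpens.exists_subset_of_mem_open hsU (f ⁻¹ᵁ U).2
  have e : U' ≤ f ⁻¹ᵁ U := hle
  have hr : Set.range s ⊆ Set.range hU'.fromSpec := by
    rw [hU'.range_fromSpec]
    rintro _ ⟨x, rfl⟩
    exact ((IsLocalRing.specializes_closedPoint (R := V) x).map s.continuous).mem_open U'.2 hsU'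
  obtain ⟨θ, hθ⟩ := Spec.map_surjective (IsOpenImmersion.lift hU'.fromSpec s hr)
  have hcomp : f.appLE U U' e ≫ θ = ψ := by
    apply Spec.map_injective
    rw [← cancel_mono hU.fromSpec, Spec.map_comp, Category.assoc,
      IsAffineOpen.SpecMap_appLE_fromSpec f hU hU' e, ← Category.assoc, hθ, IsOpenImmersion.lift_fac, hs]
  have hft : (f.appLE U U' e).hom.FiniteType :=
    HasRingHomProperty.appLE @LocallyOfFiniteType f inferInstance ⟨U, hU⟩ ⟨U', hU'⟩ e
  letI := (f.appLE U U' e).hom.toAlgebra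
  obtain ⟨G, hG⟩ := (show Algebra.FiniteType Γ(Y, U) Γ(X, U') from hft).out
  let φ : Γ(X, U') →+* K := V.subtype.comp θ.hom
  have hφ : φ.comp (f.appLE U U' e).hom = ev η U h :=
    RingHom.ext fun a => congrArg Subtype.val (ConcreteCategory.congr_hom hcomp a)
  refine ⟨⟨G.image φ, U', hU', e, φ, hφ, ?_⟩, fun t ht => ?_⟩
  · rintro _ ⟨x, rfl⟩
    have hx : x ∈ Algebra.adjoin Γ(Y, U) (G : Set Γ(X, U')) := hG ▸ Algebra.mem_top
    rw [← Subalgebra.mem_toSubring, Algebra.adjoin_eq_ring_closure] at hx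
    have h1 := (Subring.mem_map (f := φ) (y := φ x)).mpr ⟨x, hx, rfl⟩
    rw [RingHom.map_closure] at h1
    refine Subring.closure_mono ?_ h1
    rw [Set.image_union, Finset.coe_image]
    refine Set.union_subset_union_left _ ?_
    rintro _ ⟨_, ⟨a, rfl⟩, rfl⟩
    exact ⟨a, (RingHom.congr_fun hφ a).symm⟩
  · obtain ⟨x, -, rfl⟩ := Finset.mem_image.mp ht
    exact (θ.hom x).2

/-- Over a proper modification through which a `K`-point passes, sections exist locally. -/
theorem exists_sections [IsAlgClosed K] {X Y : Scheme.{u}} (f : X ⟶ Y) [LocallyOfFinitePresentation f]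
    (hf : Subtr.UnivSSubtrusive f) [CompactSpace Y] (η : Spec (CommRingCat.of K) ⟶ Y) :
    ∃ (Y' : Scheme.{u}) (q : Y' ⟶ Y) (J : Type u) (_ : Finite J) (V : J → Y'.Opens)
      (r : ∀ k, (V k : Scheme.{u}) ⟶ X), IsProper q ∧ η (IsLocalRing.closedPoint K) ∈ Set.range q ∧
        IsOpenCover V ∧ ∀ k, r k ≫ f = (V k).ι ≫ q := by
  classical
  obtain ⟨S₀, hS₀⟩ := isCompact_univ.elim_finite_subcover (fun U : Y.affineOpens => (U.1 : Set Y))
    (fun U => U.1.2) (fun y _ => by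
      obtain ⟨_, ⟨U, hU, rfl⟩, hy, -⟩ :=
        Y.isBasis_affineOpens.exists_subset_of_mem_open (Set.mem_univ y) isOpen_univ
      exact Set.mem_iUnion.mpr ⟨⟨U, hU⟩, hy⟩)
  let I := {U : Y.affineOpens // U ∈ S₀ ∧ η (IsLocalRing.closedPoint K) ∈ U.1}
  haveI : Finite I := Finite.of_injective (fun i => (⟨i.1, i.2.1⟩ : S₀)) fun a b hab =>
    Subtype.ext (congrArg (fun z : S₀ => z.1) hab :)
  have hη : ∀ i : I, ⊤ ≤ η ⁻¹ᵁ i.1.1 := fun i => top_le_of_mem η _ i.2.2
  choose S hS using fun i : I => exists_finset_of_forall (Set.range (ev η i.1.1 (hη i)))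
    (fun T : {T : Finset K // HasChart f η i.1.1 (hη i) T} => T.1)
    (fun V hV => exists_chart_finset f hf η i.1.1 i.1.2 (hη i) V hV)
  haveI := Fintype.ofFinite I
  let T₀ : Finset K := Finset.univ.biUnion fun i => (S i).biUnion fun T => T.1
  obtain ⟨Y₁, q₁, e₁, hq₁, he₁, hreg₁⟩ := exists_regular η T₀
  haveI := quasiCompact_of_point e₁
  let e := e₁.toImage
  let q : e₁.image ⟶ Y := e₁.imageι ≫ q₁
  have he : e ≫ q = η := by rw [← Category.assoc, Scheme.Hom.toImage_imageι, he₁]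
  have hreg : ∀ t ∈ T₀, IsRegular e t := fun t ht => (hreg₁ t ht).pullback e e₁.imageι e₁.toImage_imageι
  choose O hO hOt hOc using hreg
  let J := Σ i : I, S i
  have hmem : ∀ (k : J) (t : K), t ∈ k.2.1.1 → t ∈ T₀ := fun k t ht =>
    Finset.mem_biUnion.mpr ⟨k.1, Finset.mem_univ _, Finset.mem_biUnion.mpr ⟨k.2.1, k.2.2, ht⟩⟩
  let V : J → e₁.image.Opens := fun k => q ⁻¹ᵁ k.1.1.1 ⊓
    ⟨⋂ t : k.2.1.1, (O t.1 (hmem k t.1 t.2) : Set e₁.image), isOpen_iInter_of_finite fun t => (O _ _).2⟩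
  have hV : ∀ k, ⊤ ≤ e ⁻¹ᵁ V k := fun k x hx =>
    ⟨by show q (e x) ∈ k.1.1.1; rw [← Scheme.Hom.comp_apply, he]; exact hη k.1 hx,
      Set.mem_iInter.mpr fun t => hO t.1 (hmem k t.1 t.2) hx⟩
  have key : ∀ k : J, ∃ r : (V k : Scheme.{u}) ⟶ X, r ≫ f = (V k).ι ≫ q := fun k => by
    obtain ⟨U', hU', eU, φ, hφ, hrange⟩ := k.2.1.2
    have hle : V k ≤ q ⁻¹ᵁ k.1.1.1 := inf_le_left
    have hsub : φ.range ≤ (ev e (V k) (hV k)).range := by
      refine hrange.trans (Subring.closure_le.mpr (Set.union_subset ?_ fun t ht => ?_))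
      · rintro _ ⟨a, rfl⟩
        exact range_ev_mono e q η he hle (hη k.1) (hV k) ⟨a, rfl⟩
      · exact range_ev_mono e (𝟙 _) e (Category.comp_id _)
          (show V k ≤ 𝟙 e₁.image ⁻¹ᵁ O t (hmem k t ht) from fun x hx => Set.mem_iInter.mp hx.2 ⟨t, ht⟩)
          (hO t (hmem k t ht)) (hV k) (hOt t (hmem k t ht))
    choose θ₀ hθ₀ using fun x => hsub ⟨x, rfl⟩
    have hinj := ev_toImage_injective e₁ (V k) (hV k)
    let θ : Γ(X, U') →+* Γ(e₁.image, V k) :=
      { toFun := θ₀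
        map_one' := hinj (by rw [hθ₀, map_one, map_one])
        map_mul' := fun x y => hinj (by rw [hθ₀, map_mul, map_mul, hθ₀, hθ₀])
        map_zero' := hinj (by rw [hθ₀, map_zero, map_zero])
        map_add' := fun x y => hinj (by rw [hθ₀, map_add, map_add, hθ₀, hθ₀]) }
    have hθ : f.appLE k.1.1.1 U' eU ≫ CommRingCat.ofHom θ = q.appLE k.1.1.1 (V k) hle := by
      refine CommRingCat.hom_ext (RingHom.ext fun a => hinj ?_)
      refine (hθ₀ _).trans ?_
      have h1 := RingHom.congr_fun (ev_comp e q η he hle (hη k.1) (hV k)) a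
      exact (RingHom.congr_fun hφ a).trans h1.symm
    refine ⟨(V k).toSpecΓ ≫ Spec.map (CommRingCat.ofHom θ) ≫ hU'.fromSpec, ?_⟩
    rw [Category.assoc, Category.assoc, ← IsAffineOpen.SpecMap_appLE_fromSpec f k.1.1.2 hU' eU,
      ← Spec.map_comp_assoc]
    refine (congrArg (fun m => (V k).toSpecΓ ≫ Spec.map m ≫ k.1.1.2.fromSpec) hθ).trans ?_
    rw [Scheme.Opens.toSpecΓ_SpecMap_appLE_assoc, IsAffineOpen.toSpecΓ_fromSpec, Scheme.Hom.resLE_comp_ι]
  choose r hr using key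
  refine ⟨e₁.image, q, J, inferInstance, V, r, inferInstance,
    ⟨e (IsLocalRing.closedPoint K), by rw [← Scheme.Hom.comp_apply, he]⟩, ?_, hr⟩
  refine IsOpenCover.mk (top_le_iff.mp fun y _ => Opens.mem_iSup.mpr ?_)
  haveI : Subsingleton (Spec (CommRingCat.of K)) := inferInstanceAs (Subsingleton (PrimeSpectrum K))
  have hy : e (IsLocalRing.closedPoint K) ⤳ y := by
    rw [specializes_iff_mem_closure]
    have hr' : Set.range e = {e (IsLocalRing.closedPoint K)} :=
      Set.eq_singleton_iff_unique_mem.mpr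
        ⟨⟨_, rfl⟩, fun _ ⟨x, hx⟩ => hx ▸ congrArg e (Subsingleton.elim _ _)⟩
    exact hr' ▸ e.denseRange y
  obtain ⟨U, hU⟩ := Set.mem_iUnion₂.mp (hS₀ (Set.mem_univ (q y)))
  have hηU : η (IsLocalRing.closedPoint K) ∈ U.1 := by
    rw [← he, Scheme.Hom.comp_apply]
    exact (hy.map q.continuous).mem_open U.1.2 hU.2
  let i : I := ⟨U, hU.1, hηU⟩
  obtain ⟨W, c, hc, hcy⟩ := exists_center e y hy
  have hA : Set.range (ev η i.1.1 (hη i)) ⊆ W := by
    rintro _ ⟨a, rfl⟩
    exact range_ev_le_of_center η W (c ≫ q) (by rw [← Category.assoc, hc, he]) i.1.1 (hη i)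
      (by rw [Scheme.Hom.comp_apply, hcy]; exact hU.2) ⟨a, rfl⟩
  obtain ⟨T, hT, hTW⟩ := hS i W hA
  refine ⟨⟨i, ⟨T, hT⟩⟩, hU.2, Set.mem_iInter.mpr fun t => ?_⟩
  exact hcy ▸ hOc t.1 _ W c (hTW t.2) hc

end Groth.L06.Subtr
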